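import Cfsg.Agent.Lib.Recognition.CITGraph.Outer
import Cfsg.Agent.Lib.Recognition.PrimePowerSimple.Main
import Cfsg.Agent.Lib.Perm.OddProduct.PSLTwo
import Cfsg.Agent.Lib.PGroup.SzSolubilizerCount
import Cfsg.Agent.Lib.KnownB.SuzukiStructure
import Cfsg.Agent.Lib.KnownB.SuzukiSylow
import Cfsg.Agent.S0820

/-!
The groups of the list: involution classes, TI Sylow 2-subgroups and element orders.
-/

set_option autoImplicit false
set_option linter.unusedSectionVars false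
set_option linter.style.haveILetI false

namespace CfsgLib.Recognition.CITGraph

open CfsgLib.Recognition.CIT CfsgLib.Recognition.PrimePowerSimple

universe u

/-- One class of involutions. -/
def OneClassGroup (L : Type*) [Group L] : Prop :=
  ∀ a b : L, orderOf a = 2 → orderOf b = 2 → IsConj a b

/-- The centraliser of a nontrivial element of a subgroup of order `N` lies in the subgroup. -/
def TIGroup (L : Type*) [Group L] (N : ℕ) : Prop :=
  ∀ S : Subgroup L, Nat.card S = N → ∀ g ∈ S, g ≠ 1 → ∀ c : L, c * g = g * c → c ∈ S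

theorem OneClassGroup.congr {L M : Type*} [Group L] [Group M] (φ : L ≃* M) (h : OneClassGroup M) :
    OneClassGroup L := by
  intro a b ha hb
  have h1 := h (φ a) (φ b) (by rw [MulEquiv.orderOf_eq, ha]) (by rw [MulEquiv.orderOf_eq, hb])
  have h2 := MonoidHom.map_isConj φ.symm.toMonoidHom h1
  simpa using h2

theorem two_sq {L : Type*} [Group L] {a : L} (h : orderOf a = 2) : a ≠ 1 ∧ a * a = 1 :=
  ⟨fun e => by rw [e, orderOf_one] at h; omega, by rw [← pow_two, ← h, pow_orderOf_eq_one]⟩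

theorem oneClass_of_list {L : Type*} [Group L] (h : CITList L) : OneClassGroup L := by
  rcases h with ⟨F, _, _, -, ⟨φ⟩⟩ | ⟨F, _, _, h4, ⟨φ⟩⟩ | ⟨F, _, _, m, hm, hF, ⟨φ⟩⟩
  · refine OneClassGroup.congr φ fun a b ha hb => ?_
    exact CfsgLib.Perm.OddProduct.PSLTwo.isConj_of_involution (two_sq ha).1 (two_sq ha).2
      (two_sq hb).1 (two_sq hb).2
  · exact OneClassGroup.congr φ fun a b ha hb => Cfsg.Agent.S0820.result h4 a b ha hb
  · refine OneClassGroup.congr φ fun a b ha hb => ?_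
    have hp := CfsgLib.KnownB.Suzuki.params_of_card hm hF
    obtain ⟨g, hg⟩ := CfsgLib.PGroup.SzSol.conj_involution hp (two_sq ha).2 (two_sq ha).1
      (one_ne_zero (α := F))
    obtain ⟨g', hg'⟩ := CfsgLib.PGroup.SzSol.conj_involution hp (two_sq hb).2 (two_sq hb).1
      (one_ne_zero (α := F))
    exact (isConj_iff.2 ⟨g, hg⟩).trans (isConj_iff.2 ⟨g', hg'⟩).symm

theorem oneClass_subgroup {X : Type*} [Group X] {T : Subgroup X} (h : OneClassGroup T) : OneClass T := by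
  intro a ha b hb ha2 hb2
  obtain ⟨t, ht⟩ := isConj_iff.1 (h ⟨a, ha⟩ ⟨b, hb⟩ (by rw [← ha2, ← Subgroup.orderOf_coe])
    (by rw [← hb2, ← Subgroup.orderOf_coe]))
  exact ⟨t, t.2, congrArg Subtype.val ht⟩

theorem ti_subgroup {X : Type*} [Group X] {T : Subgroup X} {L : Type*} [Group L] (φ : T ≃* L) {N : ℕ}
    (h : TIGroup L N) :
    ∀ S ≤ T, IsPGroup 2 S → Nat.card S = N → ∀ g ∈ S, g ≠ 1 → ∀ c ∈ T, c * g = g * c → c ∈ S := by
  intro S hS _ hcard g hg hg1 c hc hcomm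
  have hmem := h ((S.subgroupOf T).map φ.toMonoidHom) (by
      rw [Subgroup.card_map_of_injective φ.injective,
        Nat.card_congr (Subgroup.subgroupOfEquivOfLe hS).toEquiv, hcard])
    (φ ⟨g, hS hg⟩) ⟨⟨g, hS hg⟩, hg, rfl⟩
    (fun e => hg1 (congrArg Subtype.val (φ.map_eq_one_iff.1 e)))
    (φ ⟨c, hc⟩) (by rw [← map_mul, ← map_mul]; exact congrArg φ (Subtype.ext hcomm))
  obtain ⟨y, hy, hye⟩ := hmem
  have e : y = (⟨c, hc⟩ : T) := φ.injective hye
  rw [e] at hy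
  exact hy

/-! ### `PSL(2,q)`, `q` even -/

section Even

variable {F : Type*} [Field F] [Fintype F] {m : ℕ}

local notation "L₂" => Matrix.ProjectiveSpecialLinearGroup (Fin 2) F

theorem psl_order_cases (hm : 1 ≤ m) (hF : Fintype.card F = 2 ^ m) (x : L₂) :
    orderOf x ∣ 2 ∨ orderOf x ∣ 2 ^ m - 1 ∨ orderOf x ∣ 2 ^ m + 1 := by
  obtain ⟨p, hpF⟩ := CharP.exists F
  haveI := Fact.mk (CharP.char_is_prime F p)
  obtain rfl : p = 2 := by
    obtain ⟨f, hp, hf⟩ := FiniteField.card F p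
    exact (Nat.prime_dvd_prime_iff_eq hp Nat.prime_two).1 (hp.dvd_of_dvd_pow
      (hF ▸ hf ▸ dvd_pow_self p f.ne_zero))
  have hg : Nat.gcd 2 (Fintype.card F - 1) = 1 := by
    rw [hF]
    refine Nat.coprime_two_left.2 (Nat.Even.sub_odd Nat.one_le_two_pow ?_ odd_one)
    exact Nat.even_pow.2 ⟨even_two, by omega⟩
  have h := CfsgLib.LocalEven.Spectrum.psl_orderOf_dvd 2 x
  rwa [hg, Nat.div_one, Nat.div_one, hF] at h

theorem psl_card_even (hm : 1 ≤ m) (hF : Fintype.card F = 2 ^ m) :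
    Nat.card L₂ = 2 ^ m * ((2 ^ m + 1) * (2 ^ m - 1)) := by
  have h := CfsgLib.Perm.ZGroup.card_psl2_gcd (F := F)
  have hg : Nat.gcd 2 (2 ^ m - 1) = 1 :=
    Nat.coprime_two_left.2 (Nat.Even.sub_odd Nat.one_le_two_pow (Nat.even_pow.2 ⟨even_two, by omega⟩) odd_one)
  rw [hF, hg, one_mul] at h
  rw [h, mul_comm (2 ^ m - 1)]

theorem psl_no_two_r (hm : 1 ≤ m) (hF : Fintype.card F = 2 ^ m) {r : ℕ} (hr : r.Prime) (hr2 : r ≠ 2) :
    ¬ ∃ x : L₂, orderOf x = 2 * r := by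
  rintro ⟨x, hx⟩
  have heven : Even (2 ^ m) := Nat.even_pow.2 ⟨even_two, by omega⟩
  rcases psl_order_cases hm hF x with h | h | h <;> rw [hx] at h
  · exact hr2 ((Nat.prime_dvd_prime_iff_eq hr Nat.prime_two).1 ((dvd_mul_left r 2).trans h))
  · exact (Nat.Even.sub_odd Nat.one_le_two_pow heven odd_one).not_two_dvd_nat ((dvd_mul_right 2 r).trans h)
  · exact heven.add_one.not_two_dvd_nat ((dvd_mul_right 2 r).trans h)

theorem psl_ti (hm : 1 ≤ m) (hF : Fintype.card F = 2 ^ m) : TIGroup L₂ (2 ^ m) := by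
  classical
  haveI : Fact (Nat.Prime 2) := ⟨Nat.prime_two⟩
  have heven : Even (2 ^ m) := Nat.even_pow.2 ⟨even_two, by omega⟩
  intro S hS g hg hg1 c hc
  have hodd : ∀ k, k ∣ 2 ^ m - 1 ∨ k ∣ 2 ^ m + 1 → Odd k := by
    rintro k (h | h)
    · exact (Nat.Even.sub_odd Nat.one_le_two_pow heven odd_one).of_dvd_nat h
    · exact heven.add_one.of_dvd_nat h
  have hexp : ∀ y : L₂, (∃ k, y ^ 2 ^ k = 1) → y * y = 1 := by
    intro y ⟨k, hk⟩
    rcases psl_order_cases hm hF y with h | h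
    · rw [← pow_two]; exact orderOf_dvd_iff_pow_eq_one.1 h
    · rw [eq_one_of_odd_of_two (hodd _ h) hk, one_mul]
  have hSp : IsPGroup 2 S := IsPGroup.of_card hS
  have hSsq : ∀ y ∈ S, y * y = 1 := fun y hy => hexp y (by
    obtain ⟨k, hk⟩ := hSp ⟨y, hy⟩
    exact ⟨k, congrArg Subtype.val hk⟩)
  have hg2 : orderOf g = 2 := orderOf_eq_prime (by rw [pow_two]; exact hSsq g hg) hg1
  have hC : IsPGroup 2 (Subgroup.centralizer ({g} : Set L₂)) := by
    refine isPGroup_of_forall fun d hd hdo => ?_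
    by_contra hd1
    have hcom : Commute d g := Subgroup.mem_centralizer_singleton_iff.1 hd
    have ho := hcom.orderOf_mul_eq_mul_orderOf_of_coprime (by rw [hg2]; exact Nat.coprime_two_right.2 hdo)
    rw [hg2] at ho
    rcases psl_order_cases hm hF (d * g) with h | h
    · rw [ho] at h
      exact hd1 (orderOf_eq_one_iff.1 (Nat.eq_one_of_dvd_one
        (Nat.dvd_of_mul_dvd_mul_right (k := 2) (by norm_num) (by rwa [one_mul]))))
    · exact (hodd _ h).not_two_dvd_nat (ho ▸ dvd_mul_left 2 _)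
  have hle : S ≤ Subgroup.centralizer ({g} : Set L₂) := fun s hs => by
    refine Subgroup.mem_centralizer_singleton_iff.2 ?_
    have h1 := hSsq _ (S.mul_mem hs hg)
    have h2 : (s * g)⁻¹ = s * g := inv_eq_of_mul_eq_one_right h1
    rw [mul_inv_rev, inv_eq_of_mul_eq_one_right (hSsq g hg), inv_eq_of_mul_eq_one_right (hSsq s hs)] at h2
    exact h2.symm
  obtain ⟨i, hi⟩ := IsPGroup.iff_card.1 hC
  have hbound : 2 ^ i ∣ 2 ^ m := by
    have h1 : 2 ^ i ∣ 2 ^ m * ((2 ^ m + 1) * (2 ^ m - 1)) := by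
      rw [← hi, ← psl_card_even hm hF]; exact Subgroup.card_subgroup_dvd_card _
    exact (Nat.Coprime.pow_left i (Nat.coprime_two_left.2
      (heven.add_one.mul (Nat.Even.sub_odd Nat.one_le_two_pow heven odd_one)))).dvd_of_dvd_mul_right h1
  have heq : S = Subgroup.centralizer ({g} : Set L₂) := Subgroup.eq_of_le_of_card_ge hle (by
    rw [hS, hi]; exact Nat.le_of_dvd (by positivity) hbound)
  rw [heq]
  exact Subgroup.mem_centralizer_singleton_iff.2 hc

end Even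

/-! ### Suzuki groups -/

section Sz

variable {F : Type*} [Field F] [Fintype F] {m : ℕ}

set_option quotPrecheck false in
local notation "LS" => ↥(Cfsg.Lie.Sz F (2 ^ (m + 1)))

theorem sz_card (hF : Fintype.card F = 2 ^ (2 * m + 1)) :
    Nat.card LS = (2 ^ (2 * m + 1)) ^ 2 * (((2 ^ (2 * m + 1)) ^ 2 + 1) * (2 ^ (2 * m + 1) - 1)) := by
  rw [CfsgLib.KnownB.Suzuki.card_Sz (CfsgLib.KnownB.SzElem.twist_of_card hF), hF]
  ring

theorem sz_ti (hm : 1 ≤ m) (hF : Fintype.card F = 2 ^ (2 * m + 1)) :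
    TIGroup LS ((2 ^ (2 * m + 1)) ^ 2) := by
  classical
  haveI : Fact (Nat.Prime 2) := ⟨Nat.prime_two⟩
  have hp := CfsgLib.KnownB.Suzuki.params_of_card hm hF
  have hP := CfsgLib.KnownB.Suzuki.szPartition hp
  intro S hS g hg hg1 c hc
  haveI : Finite LS := Nat.finite_of_card_ne_zero (by
    rw [sz_card hF]
    have : 2 ≤ 2 ^ (2 * m + 1) := Nat.le_self_pow (by omega) 2
    have h1 : 0 < 2 ^ (2 * m + 1) - 1 := by omega
    positivity)
  have hev : Even (2 ^ (2 * m + 1)) := Nat.even_pow.2 ⟨even_two, by omega⟩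
  have hodd : Odd (((2 ^ (2 * m + 1)) ^ 2 + 1) * (2 ^ (2 * m + 1) - 1)) :=
    ((hev.pow_of_ne_zero two_ne_zero).add_one).mul (Nat.Even.sub_odd Nat.one_le_two_pow hev odd_one)
  let P : Sylow 2 LS := Sylow.ofCard S (by
    rw [hS, sz_card hF, ← pow_mul, Nat.factorization_mul (by positivity) (by
      intro h; rw [← pow_mul] at hodd; rw [h] at hodd; exact absurd hodd (by decide))]
    simp [Nat.Prime.factorization_pow Nat.prime_two]
    rw [← pow_mul] at hodd
    exact Nat.factorization_eq_zero_of_not_dvd hodd.not_two_dvd_nat)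
  exact hP.ti P g hg hg1 (Subgroup.mem_centralizer_singleton_iff.2 hc)

theorem sz_order_cases (hm : 1 ≤ m) (hF : Fintype.card F = 2 ^ (2 * m + 1)) (x : LS) :
    (∃ i, orderOf x = 2 ^ i) ∨ orderOf x ∣ 2 ^ (2 * m + 1) - 1 ∨
      (orderOf x ∣ (2 ^ (2 * m + 1)) ^ 2 + 1) := by
  classical
  haveI : Fact (Nat.Prime 2) := ⟨Nat.prime_two⟩
  have hp := CfsgLib.KnownB.Suzuki.params_of_card hm hF
  have hP := CfsgLib.KnownB.Suzuki.szPartition hp
  rcases eq_or_ne x 1 with rfl | hx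
  · exact Or.inl ⟨0, by simp⟩
  have hxC : x ∈ Subgroup.centralizer ({x} : Set LS) := Subgroup.mem_centralizer_singleton_iff.2 rfl
  rcases hP.cases x hx with h | ⟨-, hc, -⟩
  · obtain ⟨k, hk⟩ := h ⟨x, hxC⟩
    obtain ⟨i, -, hi⟩ := (Nat.dvd_prime_pow Nat.prime_two).1
      (orderOf_dvd_of_pow_eq_one (congrArg Subtype.val hk : x ^ 2 ^ k = 1))
    exact Or.inl ⟨i, hi⟩
  · have hd := Subgroup.orderOf_dvd_natCard _ hxC
    rw [hF] at hc
    obtain ⟨A, hA⟩ : ∃ A, A = 2 ^ (2 * m + 1) := ⟨_, rfl⟩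
    obtain ⟨B, hB⟩ : ∃ B, B = 2 ^ (m + 1) := ⟨_, rfl⟩
    have hBB : B * B = 2 * A := by rw [hA, hB, ← pow_add, ← pow_succ']; congr 1; omega
    have hB4 : 4 ≤ B := by
      rw [hB]; exact (Nat.pow_le_pow_right (by norm_num) (by omega) : 2 ^ 2 ≤ 2 ^ (m + 1))
    have hBA : B ≤ A := by nlinarith
    obtain ⟨C, hC⟩ : ∃ C, C = Nat.card (Subgroup.centralizer ({x} : Set LS)) := ⟨_, rfl⟩
    rw [← hC] at hc hd
    rw [← hA, ← hB] at hc
    rw [← hA]
    have e : (A + B + 1) * (A - B + 1) = A ^ 2 + 1 := by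
      zify [hBA]
      have hBB' : (B : ℤ) * B = 2 * A := by exact_mod_cast hBB
      linear_combination -hBB'
    rcases hc with hc | hc | hc <;> rw [hc] at hd
    · exact Or.inr (Or.inl hd)
    · exact Or.inr (Or.inr (hd.trans (Dvd.intro _ e)))
    · exact Or.inr (Or.inr (hd.trans (Dvd.intro_left _ e)))

theorem sz_no_two_r (hm : 1 ≤ m) (hF : Fintype.card F = 2 ^ (2 * m + 1)) {r : ℕ} (hr : r.Prime)
    (hr2 : r ≠ 2) : ¬ ∃ x : LS, orderOf x = 2 * r := by
  rintro ⟨x, hx⟩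
  have heven : Even (2 ^ (2 * m + 1)) := Nat.even_pow.2 ⟨even_two, by omega⟩
  rcases sz_order_cases hm hF x with ⟨i, h⟩ | h | h <;> rw [hx] at h
  · exact hr2 ((Nat.prime_dvd_prime_iff_eq hr Nat.prime_two).1 (hr.dvd_of_dvd_pow (Dvd.intro_left 2 h)))
  · exact (Nat.Even.sub_odd Nat.one_le_two_pow heven odd_one).not_two_dvd_nat ((dvd_mul_right 2 r).trans h)
  · exact (heven.pow_of_ne_zero two_ne_zero).add_one.not_two_dvd_nat ((dvd_mul_right 2 r).trans h)

end Sz

end CfsgLib.Recognition.CITGraph
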