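import Cfsg.Agent.NumberTheory.PrimitivePart
import Cfsg.Agent.Lib.Recognition.PrimePowerSimple.Arith

/-!
Primes of `2 ^ a - 1` and of the orders `p (p - 1) (p + 1)` for Fermat and Mersenne primes `p`.
-/

set_option autoImplicit false

namespace CfsgLib.Recognition.CITGraph

theorem dvd_gcd_sub {r a b : ℕ} (ha : r ∣ 2 ^ a - 1) (hb : r ∣ 2 ^ b - 1) : r ∣ 2 ^ Nat.gcd a b - 1 := by
  rw [← Nat.pow_sub_one_gcd_pow_sub_one]
  exact Nat.dvd_gcd ha hb

theorem sub_dvd {a b : ℕ} (h : a ∣ b) : 2 ^ a - 1 ∣ 2 ^ b - 1 := by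
  have h1 := Nat.pow_sub_one_gcd_pow_sub_one 2 a b
  rw [Nat.gcd_eq_left h] at h1
  exact h1 ▸ Nat.gcd_dvd_right _ _

/-- A prime whose exponent for `2` is `n`. -/
theorem exists_primitive {n : ℕ} (h2 : 2 ≤ n) (h6 : n ≠ 6) :
    ∃ r : ℕ, r.Prime ∧ r ≠ 2 ∧ r ∣ 2 ^ n - 1 ∧ ∀ a, r ∣ 2 ^ a - 1 → n ∣ a := by
  obtain ⟨r, hr, hrn, hmin⟩ := CfsgLib.NT.exists_primitive_prime (q := 2) (n := n) (by norm_num) (by omega)
    (fun h => h6 h.2) (fun ⟨_, m, hm⟩ => by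
      rcases Nat.eq_zero_or_pos m with rfl | h
      · norm_num at hm
      · have : 2 ∣ 2 ^ m := dvd_pow_self 2 h.ne'
        omega)
  refine ⟨r, hr, fun h => ?_, hrn, fun a ha => ?_⟩
  · subst h
    have h1 : 2 ∣ 2 ^ n := dvd_pow_self 2 (by omega)
    have := Nat.one_le_two_pow (n := n)
    omega
  · have hg := dvd_gcd_sub ha hrn
    rcases (Nat.le_of_dvd (by omega) (Nat.gcd_dvd_right a n)).lt_or_eq with hlt | he
    · exact absurd hg (hmin _ (Nat.gcd_pos_of_pos_right _ (by omega)) hlt)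
    · exact he ▸ Nat.gcd_dvd_left a n

theorem eq_three_pow {n : ℕ} (hn : n ≠ 0) (h : ∀ s : ℕ, s.Prime → s ∣ n → s = 3) : ∃ a, n = 3 ^ a :=
  ⟨_, Nat.eq_prime_pow_of_unique_prime_dvd hn fun {d} hd hdn => h d hd hdn⟩

theorem dvd_double {r a : ℕ} (h : r ∣ 2 ^ a + 1) : r ∣ 2 ^ (2 * a) - 1 := by
  have e : 2 ^ (2 * a) - 1 = (2 ^ a + 1) * (2 ^ a - 1) := by
    rw [two_mul, pow_add, ← Nat.sq_sub_sq, one_pow, pow_two]
  exact e ▸ h.mul_right _

/-- The odd primes of `|PSL(2,p)|`, `p` Fermat, against those of `2 ^ (2 m) - 1`. -/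
theorem fermat_absurd {m k p : ℕ} (hm : 4 ≤ m) (hk : 2 ≤ k) (hp : p.Prime) (hpk : p = 2 ^ k + 1)
    (h : ∀ s : ℕ, s.Prime → s ≠ 2 → (s ∣ 2 ^ (2 * m) - 1 ↔ s = p ∨ s ∣ 2 ^ (k - 1) + 1)) : False := by
  have h4 : 4 ≤ 2 ^ k := (Nat.pow_le_pow_right (by norm_num) hk : 2 ^ 2 ≤ 2 ^ k)
  have hpk2 : p ∣ 2 ^ (2 * k) - 1 := dvd_double (hpk ▸ dvd_rfl)
  have hg := dvd_gcd_sub hpk2 ((h p hp (by omega)).2 (Or.inl rfl))
  have hkm : k ∣ m := by
    obtain ⟨c, hc⟩ := Nat.gcd_dvd_left (2 * k) (2 * m)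
    obtain ⟨g, hgdef⟩ : ∃ g, g = Nat.gcd (2 * k) (2 * m) := ⟨_, rfl⟩
    rw [← hgdef] at hg hc
    have hgpos : 0 < g := hgdef ▸ Nat.gcd_pos_of_pos_left _ (by omega)
    have hgk : k < g := by
      by_contra hle
      push Not at hle
      have h1 : 2 ^ g ≤ 2 ^ k := Nat.pow_le_pow_right (by norm_num) hle
      have h2 := Nat.le_of_dvd (by
        have : 2 ≤ 2 ^ g := Nat.le_self_pow hgpos.ne' 2
        omega) hg
      omega
    have hc1 : c = 1 := by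
      rcases Nat.lt_or_ge c 2 with hc2 | hc2
      · rcases Nat.lt_or_ge c 1 with h0 | h0
        · interval_cases c; omega
        · omega
      · have := Nat.mul_le_mul_left g hc2; omega
    rw [hc1, mul_one] at hc
    exact Nat.dvd_of_mul_dvd_mul_left (by norm_num) (hc ▸ hgdef ▸ Nat.gcd_dvd_right _ _ : 2 * k ∣ 2 * m)
  have hle := Nat.le_of_dvd (by omega) hkm
  obtain ⟨r, hr, hr2, hrn, hprim⟩ := exists_primitive (n := 2 * m) (by omega) (by omega)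
  rcases (h r hr hr2).1 hrn with rfl | hr'
  · obtain rfl : k = m := by
      have := Nat.le_of_dvd (by omega) (hprim _ hpk2)
      omega
    have h3 : ∀ s : ℕ, s.Prime → s ∣ 2 ^ (k - 1) + 1 → s = 3 := by
      intro s hs hsd
      have hs2 : s ≠ 2 := by
        rintro rfl
        have : 2 ∣ 2 ^ (k - 1) := dvd_pow_self 2 (by omega)
        omega
      have h1 := dvd_gcd_sub ((h s hs hs2).2 (Or.inr hsd)) (dvd_double hsd)
      rw [show 2 * k = 2 + 2 * (k - 1) by omega, Nat.gcd_add_self_left,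
        Nat.gcd_mul_right_right] at h1
      norm_num at h1
      exact (Nat.prime_dvd_prime_iff_eq hs Nat.prime_three).1 h1
    obtain ⟨a, ha⟩ := eq_three_pow (by positivity) h3
    rcases CfsgLib.Recognition.PrimePowerSimple.two_pow_add_one ha.symm with e | e
    · omega
    · obtain rfl : k = 4 := by omega
      have := (h 5 (by norm_num) (by norm_num)).1 (by norm_num)
      norm_num [hpk] at this
  · have := Nat.le_of_dvd (by omega) (hprim _ (dvd_double hr'))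
    omega

/-- The odd primes of `|PSL(2,p)|`, `p` Mersenne, against those of `2 ^ (2 m) - 1`. -/
theorem mersenne_absurd {m k p : ℕ} (hm : 4 ≤ m) (hk : 3 ≤ k) (hp : p.Prime) (hpk : p + 1 = 2 ^ k)
    (h : ∀ s : ℕ, s.Prime → s ≠ 2 → (s ∣ 2 ^ (2 * m) - 1 ↔ s = p ∨ s ∣ 2 ^ (k - 1) - 1)) : False := by
  have h8 : 8 ≤ 2 ^ k := (Nat.pow_le_pow_right (by norm_num) hk : 2 ^ 3 ≤ 2 ^ k)
  have hpe : 2 ^ k - 1 = p := by omega
  have hg := dvd_gcd_sub (a := k) (b := 2 * m) (hpe.symm ▸ dvd_rfl) ((h p hp (by omega)).2 (Or.inl rfl))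
  have hkm : k ∣ 2 * m := by
    have hgd := Nat.gcd_dvd_left k (2 * m)
    rcases (Nat.le_of_dvd (by omega) hgd).lt_or_eq with hlt | he
    · exfalso
      have hgpos : 0 < Nat.gcd k (2 * m) := Nat.gcd_pos_of_pos_left _ (by omega)
      have h1 : 2 ^ Nat.gcd k (2 * m) < 2 ^ k := Nat.pow_lt_pow_right (by norm_num) hlt
      have h2 : 2 ≤ 2 ^ Nat.gcd k (2 * m) := Nat.le_self_pow hgpos.ne' 2
      have := Nat.le_of_dvd (by omega) hg
      omega
    · exact he ▸ Nat.gcd_dvd_right k (2 * m)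
  obtain ⟨r, hr, hr2, hrn, hprim⟩ := exists_primitive (n := 2 * m) (by omega) (by omega)
  rcases (h r hr hr2).1 hrn with rfl | hr'
  · obtain rfl : k = 2 * m := Nat.dvd_antisymm hkm (hprim _ (hpe.symm ▸ dvd_rfl))
    have h3 : 2 ^ 2 - 1 ∣ r := hpe ▸ sub_dvd (dvd_mul_right 2 m)
    rcases hr.eq_one_or_self_of_dvd 3 h3 with e | e <;> omega
  · have := Nat.le_of_dvd (by omega) (hprim _ hr')
    have := Nat.le_of_dvd (by omega) hkm
    omega

end CfsgLib.Recognition.CITGraph
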