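import Cfsg.Agent.Lib.Recognition.CITGraph.Groups
import Cfsg.Agent.Lib.Recognition.CITGraph.Arith
import Cfsg.Agent.Lib.KnownB.SuzukiSubgroupsTransfer

/-!
Identification of a group of the list from the odd primes of its order.
-/

set_option autoImplicit false
set_option linter.unusedSectionVars false
set_option linter.style.haveILetI false

namespace CfsgLib.Recognition.CITGraph

open CfsgLib.Recognition.PrimePowerSimple

theorem card_psl3_four {F : Type*} [Field F] [Fintype F] (h4 : Fintype.card F = 4) :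
    Nat.card (Matrix.ProjectiveSpecialLinearGroup (Fin 3) F) = 20160 := by
  have h1 := CfsgLib.Classical.card_sl_mul (F := F) h4 3 (by norm_num)
  rw [← CfsgLib.Classical.card_psl_mul (F := F) h4 3 (by norm_num)] at h1
  simp only [Fin.prod_univ_three, Fin.val_zero, Fin.val_one, Fin.val_two] at h1
  norm_num at h1
  omega

/-- Primes of `|PSL(2,F)|`, `gcd (2, q - 1)` times. -/
theorem dvd_psl_iff {L : Type*} [Group L] {F : Type*} [Field F] [Fintype F]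
    (φ : L ≃* Matrix.ProjectiveSpecialLinearGroup (Fin 2) F) {s : ℕ} (hs : s.Prime) (hs2 : s ≠ 2) :
    s ∣ Nat.card L ↔ s ∣ Fintype.card F * ((Fintype.card F - 1) * (Fintype.card F + 1)) := by
  rw [Nat.card_congr φ.toEquiv, ← CfsgLib.Perm.ZGroup.card_psl2_gcd]
  refine ⟨fun h => h.mul_left _, fun h => ?_⟩
  rcases hs.dvd_mul.1 h with h1 | h1
  · exact absurd ((Nat.prime_dvd_prime_iff_eq hs Nat.prime_two).1 (h1.trans (Nat.gcd_dvd_left _ _))) hs2
  · exact h1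

theorem not_three_dvd_sz {F : Type*} [Field F] [Fintype F] {k : ℕ}
    (hF : Fintype.card F = 2 ^ (2 * k + 1)) :
    ¬ 3 ∣ Nat.card ↥(Cfsg.Lie.Sz F (2 ^ (k + 1))) := by
  rw [sz_card hF]
  intro h
  have hq : 2 ^ (2 * k + 1) % 3 = 2 := by
    rw [pow_succ, pow_mul, Nat.mul_mod, Nat.pow_mod]; norm_num
  obtain ⟨q, hqdef⟩ : ∃ q, q = 2 ^ (2 * k + 1) := ⟨_, rfl⟩
  rw [← hqdef] at h hq
  rcases Nat.prime_three.dvd_mul.1 h with h1 | h1
  · have := Nat.prime_three.dvd_of_dvd_pow h1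
    omega
  rcases Nat.prime_three.dvd_mul.1 h1 with h1 | h1
  · rw [Nat.dvd_iff_mod_eq_zero, Nat.add_mod, Nat.pow_mod, hq] at h1
    norm_num at h1
  · omega

theorem three_dvd_psl {L : Type*} [Group L] {F : Type*} [Field F] [Fintype F]
    (φ : L ≃* Matrix.ProjectiveSpecialLinearGroup (Fin 2) F) : 3 ∣ Nat.card L := by
  rw [dvd_psl_iff φ Nat.prime_three (by norm_num)]
  have h1 : 2 ≤ Fintype.card F := Fintype.one_lt_card
  rcases three_dvd_cases (Fintype.card F) with h | h | h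
  · exact h.mul_right _
  · exact (h.mul_left _).mul_left _
  · have : 3 ∣ Fintype.card F - 1 := by omega
    exact (this.mul_right _).mul_left _

theorem dvd_two_mul_factor {m s : ℕ} (hm : 1 ≤ m) (hs : s.Prime) (hs2 : s ≠ 2) :
    s ∣ 2 ^ m * ((2 ^ m + 1) * (2 ^ m - 1)) ↔ s ∣ 2 ^ (2 * m) - 1 := by
  have e : 2 ^ (2 * m) - 1 = (2 ^ m + 1) * (2 ^ m - 1) := by
    rw [two_mul, pow_add, ← Nat.sq_sub_sq, one_pow, pow_two]
  rw [e]
  exact ⟨fun h => (hs.dvd_mul.1 h).resolve_left fun h' =>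
    hs2 ((Nat.prime_dvd_prime_iff_eq hs Nat.prime_two).1 (hs.dvd_of_dvd_pow h')), fun h => h.mul_left _⟩

theorem identify_psl {L : Type*} [Group L] [Finite L] [IsSimpleGroup L] (hL : CITList L) {m : ℕ}
    (hm : 4 ≤ m) (hπ : ∀ s : ℕ, s.Prime → s ≠ 2 → (s ∣ Nat.card L ↔ s ∣ 2 ^ (2 * m) - 1)) :
    ∃ (F : Type) (_ : Field F) (_ : Fintype F), Fintype.card F = 2 ^ m ∧
      Nonempty (L ≃* Matrix.ProjectiveSpecialLinearGroup (Fin 2) F) := by
  have h3 : 3 ∣ Nat.card L := (hπ 3 Nat.prime_three (by norm_num)).2 (sub_dvd (a := 2) (Dvd.intro m rfl))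
  obtain ⟨r, hr, hr2, hrn, hprim⟩ := exists_primitive (n := 2 * m) (by omega) (by omega)
  have hrL := (hπ r hr hr2).2 hrn
  rcases hL with ⟨F, _, _, hq, ⟨φ⟩⟩ | ⟨F, _, _, h4, ⟨φ⟩⟩ | ⟨F, _, _, k, hk, hF, ⟨φ⟩⟩
  · have hlarge := CfsgLib.Perm.ZGroup.three_lt_of_simple_psl φ
    rcases hq with h9 | ⟨n, hn⟩ | ⟨hp, k, hk⟩
    · have h := (dvd_psl_iff φ hr hr2).1 hrL
      rw [h9] at h
      have hr' : r ∣ 2 ^ 2 - 1 ∨ r ∣ 2 ^ 4 - 1 := by
        norm_num at h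
        rcases hr.dvd_mul.1 (show r ∣ 2 ^ 4 * (3 ^ 2 * 5) by norm_num; exact h) with h' | h'
        · exact absurd ((Nat.prime_dvd_prime_iff_eq hr Nat.prime_two).1 (hr.dvd_of_dvd_pow h')) hr2
        rcases hr.dvd_mul.1 h' with h' | h'
        · exact Or.inl (by norm_num; exact hr.dvd_of_dvd_pow h')
        · exact Or.inr (h'.trans (by norm_num))
      rcases hr' with h' | h' <;> have := Nat.le_of_dvd (by norm_num) (hprim _ h') <;> omega
    · have hn2 : 2 ≤ n := by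
        by_contra h
        interval_cases n <;> norm_num at hn <;> omega
      have hiff : ∀ s : ℕ, s.Prime → s ≠ 2 → (s ∣ Nat.card L ↔ s ∣ 2 ^ (2 * n) - 1) := fun s hs hs2 => by
        rw [dvd_psl_iff φ hs hs2, hn, mul_comm (2 ^ n - 1), dvd_two_mul_factor (by omega) hs hs2]
      have h1 : 2 * m ∣ 2 * n := hprim _ ((hiff r hr hr2).1 hrL)
      rcases eq_or_ne n 3 with rfl | hn3
      · have := Nat.le_of_dvd (by norm_num) h1; omega
      obtain ⟨r', hr', hr'2, hrn', hprim'⟩ := exists_primitive (n := 2 * n) (by omega) (by omega)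
      have h2 : 2 * n ∣ 2 * m := hprim' _ ((hπ r' hr' hr'2).1 ((hiff r' hr' hr'2).2 hrn'))
      have := Nat.dvd_antisymm h1 h2
      exact ⟨F, inferInstance, inferInstance, by rw [hn]; congr 1; omega, ⟨φ⟩⟩
    · exfalso
      obtain ⟨j, rfl⟩ : ∃ j, k = j + 1 := ⟨k - 1, by
        rcases Nat.eq_zero_or_pos k with rfl | h0
        · norm_num at hk; omega
        · omega⟩
      have hiff : ∀ s : ℕ, s.Prime → s ≠ 2 →
          (s ∣ 2 ^ (2 * m) - 1 ↔ s = Fintype.card F ∨ s ∣ Fintype.card F - 1 ∨ s ∣ Fintype.card F + 1) :=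
        fun s hs hs2 => by
          rw [← hπ s hs hs2, dvd_psl_iff φ hs hs2, hs.dvd_mul, hs.dvd_mul, Nat.prime_dvd_prime_iff_eq hs hp]
      rw [pow_succ] at hk
      rcases hk with hk | hk
      · refine fermat_absurd (k := j + 1) hm (by
          rcases Nat.eq_zero_or_pos j with rfl | h0
          · norm_num at hk; omega
          · omega) hp (by rw [hk, pow_succ]) fun s hs hs2 => ?_
        rw [hiff s hs hs2, Nat.add_sub_cancel, hk, Nat.add_sub_cancel,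
          show 2 ^ j * 2 + 1 + 1 = (2 ^ j + 1) * 2 by ring, hs.dvd_mul, hs.dvd_mul]
        have hs' : ¬ s ∣ 2 := fun h => hs2 ((Nat.prime_dvd_prime_iff_eq hs Nat.prime_two).1 h)
        have hs'' : ¬ s ∣ 2 ^ j := fun h => hs' (hs.dvd_of_dvd_pow h)
        tauto
      · refine mersenne_absurd (k := j + 1) hm (by
          rcases Nat.lt_or_ge j 2 with h0 | h0
          · interval_cases j <;> norm_num at hk <;> omega
          · omega) hp (by rw [hk, pow_succ]) fun s hs hs2 => ?_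
        have h1 : Fintype.card F - 1 = (2 ^ j - 1) * 2 := by
          have := Nat.one_le_two_pow (n := j); omega
        rw [hiff s hs hs2, Nat.add_sub_cancel, hk, h1, hs.dvd_mul, hs.dvd_mul]
        have hs' : ¬ s ∣ 2 := fun h => hs2 ((Nat.prime_dvd_prime_iff_eq hs Nat.prime_two).1 h)
        have hs'' : ¬ s ∣ 2 ^ j := fun h => hs' (hs.dvd_of_dvd_pow h)
        tauto
  · exfalso
    rw [Nat.card_congr φ.toEquiv, card_psl3_four h4] at hrL
    rcases hr.dvd_mul.1 (show r ∣ 2 ^ 6 * (3 ^ 2 * (5 * 7)) by norm_num; exact hrL) with h' | h'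
    · exact hr2 ((Nat.prime_dvd_prime_iff_eq hr Nat.prime_two).1 (hr.dvd_of_dvd_pow h'))
    rcases hr.dvd_mul.1 h' with h' | h'
    · have := Nat.le_of_dvd (by norm_num) (hprim 2 (by norm_num; exact hr.dvd_of_dvd_pow h'))
      omega
    rcases hr.dvd_mul.1 h' with h' | h'
    · have := Nat.le_of_dvd (by norm_num) (hprim 4 (h'.trans (by norm_num)))
      omega
    · have := Nat.le_of_dvd (by norm_num) (hprim 3 (h'.trans (by norm_num)))
      omega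
  · exfalso
    rw [Nat.card_congr φ.toEquiv] at h3
    exact not_three_dvd_sz hF h3

theorem dvd_sz_iff {F : Type*} [Field F] [Fintype F] {k : ℕ} (hF : Fintype.card F = 2 ^ (2 * k + 1))
    {s : ℕ} (hs : s.Prime) (hs2 : s ≠ 2) :
    s ∣ Nat.card ↥(Cfsg.Lie.Sz F (2 ^ (k + 1))) ↔
      s ∣ ((2 ^ (2 * k + 1)) ^ 2 + 1) * (2 ^ (2 * k + 1) - 1) := by
  rw [sz_card hF]
  refine ⟨fun h => ?_, fun h => h.mul_left _⟩
  rcases hs.dvd_mul.1 h with h1 | h1
  · exact absurd ((Nat.prime_dvd_prime_iff_eq hs Nat.prime_two).1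
      (hs.dvd_of_dvd_pow (hs.dvd_of_dvd_pow h1))) hs2
  · exact h1

theorem sz_factor_dvd (n : ℕ) : ((2 ^ n) ^ 2 + 1) * (2 ^ n - 1) ∣ 2 ^ (4 * n) - 1 := by
  have h1 : 1 ≤ 2 ^ n := Nat.one_le_two_pow
  refine ⟨2 ^ n + 1, ?_⟩
  rw [show 2 ^ (4 * n) = (2 ^ n) ^ 4 by rw [← pow_mul, mul_comm]]
  generalize 2 ^ n = a at h1 ⊢
  have h4 : 1 ≤ a ^ 4 := Nat.one_le_pow _ _ (by omega)
  zify [h1, h4]
  ring

theorem sz_primitive {n r : ℕ} (hn : 1 ≤ n) (hr : r.Prime) (h : r ∣ 2 ^ (4 * n) - 1)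
    (hprim : ∀ a, r ∣ 2 ^ a - 1 → 4 * n ∣ a) : r ∣ ((2 ^ n) ^ 2 + 1) * (2 ^ n - 1) := by
  have e : 2 ^ (4 * n) - 1 = ((2 ^ n) ^ 2 + 1) * (2 ^ (2 * n) - 1) := by
    rw [show (2 ^ n) ^ 2 = 2 ^ (2 * n) by rw [← pow_mul, mul_comm], ← Nat.sq_sub_sq (2 ^ (2 * n)) 1,
      one_pow, ← pow_mul]
    ring_nf
  rw [e] at h
  rcases hr.dvd_mul.1 h with h1 | h1
  · exact h1.mul_right _
  · have := Nat.le_of_dvd (by omega) (hprim _ h1)
    omega

theorem identify_sz {L : Type*} [Group L] [Finite L] (hL : CITList L) {F₀ : Type*} [Field F₀] [Fintype F₀]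
    {m : ℕ} (hm : 1 ≤ m) (hF₀ : Fintype.card F₀ = 2 ^ (2 * m + 1))
    (hπ : ∀ s : ℕ, s.Prime → s ≠ 2 → (s ∣ Nat.card L ↔ s ∣ Nat.card ↥(Cfsg.Lie.Sz F₀ (2 ^ (m + 1))))) :
    Nonempty (L ≃* ↥(Cfsg.Lie.Sz F₀ (2 ^ (m + 1)))) := by
  have h3 : ¬ 3 ∣ Nat.card L := fun h =>
    not_three_dvd_sz hF₀ ((hπ 3 Nat.prime_three (by norm_num)).1 h)
  rcases hL with ⟨F, _, _, -, ⟨φ⟩⟩ | ⟨F, _, _, h4, ⟨φ⟩⟩ | ⟨F, _, _, k, hk, hF, ⟨φ⟩⟩
  · exact absurd (three_dvd_psl φ) h3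
  · exact absurd (by rw [Nat.card_congr φ.toEquiv, card_psl3_four h4]; norm_num) h3
  · have key : ∀ a b : ℕ, 1 ≤ a → (∀ s : ℕ, s.Prime → s ≠ 2 →
        s ∣ ((2 ^ a) ^ 2 + 1) * (2 ^ a - 1) → s ∣ ((2 ^ b) ^ 2 + 1) * (2 ^ b - 1)) → 4 * a ∣ 4 * b := by
      intro a b ha hab
      obtain ⟨r, hr, hr2, hrn, hprim⟩ := exists_primitive (n := 4 * a) (by omega) (by omega)
      exact hprim _ ((hab r hr hr2 (sz_primitive ha hr hrn hprim)).trans (sz_factor_dvd b))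
    have hiff : ∀ s : ℕ, s.Prime → s ≠ 2 → (s ∣ ((2 ^ (2 * k + 1)) ^ 2 + 1) * (2 ^ (2 * k + 1) - 1) ↔
        s ∣ ((2 ^ (2 * m + 1)) ^ 2 + 1) * (2 ^ (2 * m + 1) - 1)) := fun s hs hs2 => by
      rw [← dvd_sz_iff hF hs hs2, ← dvd_sz_iff hF₀ hs hs2, ← hπ s hs hs2, Nat.card_congr φ.toEquiv]
    have h := Nat.dvd_antisymm (key _ _ (by omega) fun s hs hs2 => (hiff s hs hs2).1)
      (key _ _ (by omega) fun s hs hs2 => (hiff s hs hs2).2)
    obtain rfl : k = m := by omega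
    obtain ⟨σ⟩ : Nonempty (F ≃+* F₀) := ⟨FiniteField.ringEquivOfCardEq (by rw [hF, hF₀])⟩
    exact ⟨φ.trans (CfsgLib.KnownB.Suzuki.szCongr σ (CfsgLib.KnownB.SzElem.twist_of_card hF₀))⟩

end CfsgLib.Recognition.CITGraph
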