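import Cfsg.Agent.Lib.Recognition.CITGraph.Ident
import Cfsg.Agent.S3633

/-!
Groups with the prime graph of `Sz(q)` or of `PSL(2,2^m)`, given the list of simple groups in which
involution centralisers are 2-groups.
-/

set_option autoImplicit false
set_option linter.unusedSectionVars false
set_option linter.style.haveILetI false

open Subgroup

namespace CfsgLib.Recognition.CITGraph

open CfsgLib.Recognition.CIT CfsgLib.Recognition.PrimePowerSimple

universe u

/-- Equal prime graphs. -/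
def SameGraph (L G : Type*) [Group L] [Group G] : Prop :=
  (∀ r : ℕ, r.Prime → (r ∣ Nat.card L ↔ r ∣ Nat.card G)) ∧
    (∀ r s : ℕ, r.Prime → s.Prime → r ≠ s → ((∃ x : L, orderOf x = r * s) ↔ (∃ y : G, orderOf y = r * s)))

/-- The classification used. -/
def CITClassified : Prop :=
  ∀ (L : Type u) [Group L] [Finite L] [IsSimpleGroup L], ¬ IsMulCommutative L → IsCIT L → CITList L

variable {G : Type u} [Group G] [Finite G]

theorem isCIT_of_graph {L : Type*} [Group L] (h : SameGraph L G)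
    (h2 : ∀ r : ℕ, r.Prime → r ≠ 2 → ¬ ∃ x : L, orderOf x = 2 * r) : IsCIT G := by
  intro t ht
  refine isPGroup_of_forall fun d hd hodd => ?_
  by_contra hd1
  obtain ⟨r, hr, hrd⟩ := Nat.exists_prime_and_dvd (mt orderOf_eq_one_iff.1 hd1)
  have hr2 : r ≠ 2 := fun e => hodd.not_two_dvd_nat (e ▸ hrd)
  have he : orderOf (d ^ (orderOf d / r)) = r :=
    orderOf_pow_orderOf_div (orderOf_pos d).ne' hrd
  have hcom : Commute t (d ^ (orderOf d / r)) :=
    (Commute.pow_right (show Commute t d from (mem_centralizer_singleton_iff.1 hd).symm) _)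
  refine h2 r hr hr2 ((h.2 2 r Nat.prime_two hr (Ne.symm hr2)).2 ⟨t * d ^ (orderOf d / r), ?_⟩)
  rw [hcom.orderOf_mul_eq_mul_orderOf_of_coprime (by
    rw [ht, he]; exact (Nat.coprime_primes Nat.prime_two hr).2 (Ne.symm hr2)), ht, he]

theorem not_solvable_of_graph {L : Type*} [Group L] (h : SameGraph L G)
    (h2 : ∀ r : ℕ, r.Prime → r ≠ 2 → ¬ ∃ x : L, orderOf x = 2 * r) {r s : ℕ} (hr : r.Prime) (hs : s.Prime)
    (hr2 : r ≠ 2) (hs2 : s ≠ 2) (hrs : r ≠ s) (h2L : 2 ∣ Nat.card L) (hrL : r ∣ Nat.card L)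
    (hsL : s ∣ Nat.card L) (hnrs : ¬ ∃ x : L, orderOf x = r * s) : ¬ Group.IsSolvable G := by
  classical
  haveI : Group.IsSolvable (⊥ : Subgroup G) := inferInstance
  refine (Cfsg.Agent.S3633.result ({2, r, s} : Finset ℕ) ?_ ⟨?_, ?_⟩ (⊥ : Subgroup G) inferInstance).2
  · rw [Finset.card_insert_of_notMem (by simp [Ne.symm hr2, Ne.symm hs2]),
      Finset.card_insert_of_notMem (by simp [hrs]), Finset.card_singleton]
  · intro a ha
    simp only [Finset.mem_insert, Finset.mem_singleton] at ha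
    rcases ha with rfl | rfl | rfl
    · exact ⟨Nat.prime_two, (h.1 2 Nat.prime_two).1 h2L⟩
    · exact ⟨hr, (h.1 _ hr).1 hrL⟩
    · exact ⟨hs, (h.1 _ hs).1 hsL⟩
  · intro a ha b hb hab ⟨y, hy⟩
    simp only [Finset.mem_insert, Finset.mem_singleton] at ha hb
    have key : ∀ a b : ℕ, a.Prime → b.Prime → a ≠ b → orderOf y = a * b → ∃ x : L, orderOf x = a * b :=
      fun a b ha hb hab e => (h.2 a b ha hb hab).2 ⟨y, e⟩
    rcases ha with rfl | rfl | rfl <;> rcases hb with rfl | rfl | rfl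
    all_goals first
      | exact hab rfl
      | exact h2 _ hr hr2 (key _ _ Nat.prime_two hr (Ne.symm hr2) hy)
      | exact h2 _ hs hs2 (key _ _ Nat.prime_two hs (Ne.symm hs2) hy)
      | exact h2 _ hr hr2 (key _ _ Nat.prime_two hr (Ne.symm hr2) (hy.trans (mul_comm _ _)))
      | exact h2 _ hs hs2 (key _ _ Nat.prime_two hs (Ne.symm hs2) (hy.trans (mul_comm _ _)))
      | exact hnrs (key _ _ hr hs hrs hy)
      | exact hnrs (key _ _ hr hs hrs (hy.trans (mul_comm _ _)))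

/-- The socle of the quotient, with the odd primes of the group. -/
theorem exists_socle (hlist : CITClassified.{u}) (H : IsCIT G) (hns : ¬ Group.IsSolvable G) :
    ∃ (T : Subgroup (G ⧸ Cfsg.pCore 2 G)) (_ : T.Normal) (_ : IsSimpleGroup T), CITList T ∧ OneClass T ∧
      ∀ s : ℕ, s.Prime → s ≠ 2 → (s ∣ Nat.card T ↔ s ∣ Nat.card G) := by
  classical
  haveI : Fact (Nat.Prime 2) := ⟨Nat.prime_two⟩
  obtain ⟨T, hT, hTs, hTnc⟩ := exists_simple_normal H hns
  haveI := hT
  haveI := hTs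
  have hO : IsPGroup 2 (Cfsg.pCore 2 G) := CfsgLib.Solvable.Cores.isPGroup_pCore 2
  have HQ := quotient_isCIT H hO
  have HT : IsCIT T := fun t ht => isPGroup_of_forall fun d hd hodd => by
    refine Subtype.ext ?_
    have ht' : orderOf (t : G ⧸ Cfsg.pCore 2 G) = 2 := by rw [Subgroup.orderOf_coe, ht]
    have hd' : (d : G ⧸ Cfsg.pCore 2 G) ∈ centralizer ({(t : G ⧸ Cfsg.pCore 2 G)} : Set _) :=
      mem_centralizer_singleton_iff.2 (congrArg Subtype.val (mem_centralizer_singleton_iff.1 hd))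
    exact eq_one_of_odd_of_pGroup (HQ _ ht') hd' (by rwa [Subgroup.orderOf_coe])
  have hlistT := hlist T hTnc HT
  have hone := oneClass_subgroup (oneClass_of_list hlistT)
  have heven : 2 ∣ Nat.card T := by
    by_contra h
    haveI : Group.IsSolvable T :=
      CfsgLib.OddOrder.Final.oddSolvable T (Nat.not_even_iff_odd.1 fun e => h e.two_dvd)
    exact hTnc (isMulCommutative_iff.2 (IsSimpleGroup.comm_iff_isSolvable.2 inferInstance))
  obtain ⟨a, ha⟩ := exists_prime_orderOf_dvd_card' (G := T) 2 heven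
  obtain ⟨j, hj⟩ := index_two_pow HQ T hone a.2 (by rw [Subgroup.orderOf_coe]; exact ha)
  obtain ⟨i, hi⟩ := IsPGroup.iff_card.1 hO
  refine ⟨T, hT, hTs, hlistT, hone, fun s hs hs2 => ?_⟩
  have hG : Nat.card G = Nat.card T * (2 ^ j * 2 ^ i) := by
    rw [Subgroup.card_eq_card_quotient_mul_card_subgroup (Cfsg.pCore 2 G), ← T.card_mul_index, hj, hi]
    ring
  rw [hG]
  refine ⟨fun h => h.mul_right _, fun h => (hs.dvd_mul.1 h).resolve_right fun h' => hs2 ?_⟩
  rw [← pow_add] at h'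
  exact (Nat.prime_dvd_prime_iff_eq hs Nat.prime_two).1 (hs.dvd_of_dvd_pow h')

theorem sz_graph (hlist : CITClassified.{u}) {F : Type*} [Field F] [Fintype F] (m : ℕ) (hm : 1 ≤ m)
    (hF : Fintype.card F = 2 ^ (2 * m + 1)) (h : SameGraph ↥(Cfsg.Lie.Sz F (2 ^ (m + 1))) G) :
    Nonempty (G ⧸ Cfsg.pCore 2 G ≃* ↥(Cfsg.Lie.Sz F (2 ^ (m + 1)))) := by
  classical
  obtain ⟨q, hq⟩ : ∃ q, q = 2 ^ (2 * m + 1) := ⟨_, rfl⟩
  have hev : Even q := hq ▸ Nat.even_pow.2 ⟨even_two, by omega⟩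
  have h8 : 8 ≤ q := hq ▸ (Nat.pow_le_pow_right (by norm_num) (by omega) : 2 ^ 3 ≤ 2 ^ (2 * m + 1))
  have hcard := sz_card hF
  rw [← hq] at hcard
  have h2r := fun (r : ℕ) (hr : r.Prime) (hr2 : r ≠ 2) => sz_no_two_r hm hF hr hr2
  have H := isCIT_of_graph h h2r
  have hns : ¬ Group.IsSolvable G := by
    obtain ⟨r, hr, hrq⟩ := Nat.exists_prime_and_dvd (show q - 1 ≠ 1 by omega)
    obtain ⟨s, hs, hsq⟩ := Nat.exists_prime_and_dvd (show q ^ 2 + 1 ≠ 1 by nlinarith)
    have hr2 : r ≠ 2 := fun e => (Nat.Even.sub_odd (by omega) hev odd_one).not_two_dvd_nat (e ▸ hrq)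
    have hs2 : s ≠ 2 := fun e => (hev.pow_of_ne_zero two_ne_zero).add_one.not_two_dvd_nat (e ▸ hsq)
    have hcop : ∀ l : ℕ, l.Prime → l ∣ q - 1 → l ∣ q ^ 2 + 1 → l = 2 := fun l hl h1 h2 => by
      have h3 : l ∣ (q - 1) * (q + 1) := h1.mul_right _
      have e : (q - 1) * (q + 1) + 2 = q ^ 2 + 1 := by
        zify [show 1 ≤ q by omega]; ring
      rw [← e] at h2
      exact (Nat.prime_dvd_prime_iff_eq hl Nat.prime_two).1 ((Nat.dvd_add_right h3).1 h2)
    refine not_solvable_of_graph h h2r hr hs hr2 hs2 (fun e => hr2 (hcop r hr hrq (e ▸ hsq))) ?_ ?_ ?_ ?_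
    · rw [hcard]; exact (Dvd.dvd.mul_right (hev.two_dvd.trans (dvd_pow_self q two_ne_zero)) _)
    · rw [hcard]; exact (hrq.mul_left _).mul_left _
    · rw [hcard]; exact (hsq.mul_right _).mul_left _
    · rintro ⟨x, hx⟩
      rcases sz_order_cases hm hF x with ⟨i, hi⟩ | hi | hi
      · rw [hx] at hi
        exact hr2 ((Nat.prime_dvd_prime_iff_eq hr Nat.prime_two).1 (hr.dvd_of_dvd_pow (Dvd.intro s hi)))
      · rw [hx, ← hq] at hi
        exact hs2 (hcop s hs ((dvd_mul_left s r).trans hi) hsq)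
      · rw [hx, ← hq] at hi
        exact hr2 (hcop r hr hrq ((dvd_mul_right r s).trans hi))
  obtain ⟨T, hT, hTs, hlistT, hone, hπ⟩ := exists_socle hlist H hns
  obtain ⟨φ⟩ := identify_sz hlistT hm hF fun s hs hs2 => by rw [hπ s hs hs2, ← h.1 s hs]
  have htop : T = ⊤ := eq_top (quotient_isCIT H (CfsgLib.Solvable.Cores.isPGroup_pCore 2)) T hev
    (by omega) (show q ≤ q ^ 2 by nlinarith) ⟨2 * (2 * m + 1), by rw [hq, ← pow_mul, mul_comm]⟩
    (by rw [Nat.card_congr φ.toEquiv, hcard]) hone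
    (ti_subgroup φ (by rw [hq]; exact sz_ti hm hF))
  subst htop
  exact ⟨Subgroup.topEquiv.symm.trans φ⟩

theorem psl_graph (hlist : CITClassified.{u}) {F : Type*} [Field F] [Fintype F] (m : ℕ) (hm : 4 ≤ m)
    (hF : Fintype.card F = 2 ^ m) (h : SameGraph (Matrix.ProjectiveSpecialLinearGroup (Fin 2) F) G) :
    Nonempty (G ⧸ Cfsg.pCore 2 G ≃* Matrix.ProjectiveSpecialLinearGroup (Fin 2) F) := by
  classical
  obtain ⟨q, hq⟩ : ∃ q, q = 2 ^ m := ⟨_, rfl⟩
  have hev : Even q := hq ▸ Nat.even_pow.2 ⟨even_two, by omega⟩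
  have h16 : 16 ≤ q := hq ▸ (Nat.pow_le_pow_right (by norm_num) hm : 2 ^ 4 ≤ 2 ^ m)
  have hcard := psl_card_even (by omega) hF
  rw [← hq] at hcard
  have h2r := fun (r : ℕ) (hr : r.Prime) (hr2 : r ≠ 2) => psl_no_two_r (by omega) hF hr hr2
  have H := isCIT_of_graph h h2r
  have hns : ¬ Group.IsSolvable G := by
    obtain ⟨r, hr, hrq⟩ := Nat.exists_prime_and_dvd (show q - 1 ≠ 1 by omega)
    obtain ⟨s, hs, hsq⟩ := Nat.exists_prime_and_dvd (show q + 1 ≠ 1 by omega)
    have hr2 : r ≠ 2 := fun e => (Nat.Even.sub_odd (by omega) hev odd_one).not_two_dvd_nat (e ▸ hrq)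
    have hs2 : s ≠ 2 := fun e => hev.add_one.not_two_dvd_nat (e ▸ hsq)
    have hcop : ∀ l : ℕ, l.Prime → l ∣ q - 1 → l ∣ q + 1 → l = 2 := fun l hl h1 h2 => by
      rw [show q + 1 = q - 1 + 2 by omega] at h2
      exact (Nat.prime_dvd_prime_iff_eq hl Nat.prime_two).1 ((Nat.dvd_add_right h1).1 h2)
    refine not_solvable_of_graph h h2r hr hs hr2 hs2 (fun e => hr2 (hcop r hr hrq (e ▸ hsq))) ?_ ?_ ?_ ?_
    · rw [hcard]; exact hev.two_dvd.mul_right _
    · rw [hcard]; exact (hrq.mul_left _).mul_left _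
    · rw [hcard]; exact (hsq.mul_right _).mul_left _
    · rintro ⟨x, hx⟩
      rcases psl_order_cases (by omega) hF x with hi | hi | hi <;> rw [hx] at hi
      · exact hr2 ((Nat.prime_dvd_prime_iff_eq hr Nat.prime_two).1 ((dvd_mul_right r s).trans hi))
      · exact hs2 (hcop s hs (hq ▸ (dvd_mul_left s r).trans hi) hsq)
      · exact hr2 (hcop r hr hrq (hq ▸ (dvd_mul_right r s).trans hi))
  obtain ⟨T, hT, hTs, hlistT, hone, hπ⟩ := exists_socle hlist H hns
  obtain ⟨F', _, _, hF', ⟨φ⟩⟩ := identify_psl hlistT hm fun s hs hs2 => by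
    rw [hπ s hs hs2, ← h.1 s hs, psl_card_even (by omega) hF, dvd_two_mul_factor (by omega) hs hs2]
  have htop : T = ⊤ := eq_top (quotient_isCIT H (CfsgLib.Solvable.Cores.isPGroup_pCore 2)) T hev
    (by omega) le_rfl ⟨m, hq⟩
    (by rw [Nat.card_congr φ.toEquiv, psl_card_even (by omega) hF', hq]) hone
    (ti_subgroup φ (hq ▸ psl_ti (by omega) hF'))
  subst htop
  obtain ⟨σ⟩ : Nonempty (F' ≃+* F) := ⟨FiniteField.ringEquivOfCardEq (by rw [hF, hF'])⟩
  let e : Matrix.SpecialLinearGroup (Fin 2) F' ≃* Matrix.SpecialLinearGroup (Fin 2) F :=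
    { toFun := Matrix.SpecialLinearGroup.map (σ : F' →+* F)
      invFun := Matrix.SpecialLinearGroup.map (σ.symm : F →+* F')
      left_inv := fun A => by ext i j; simp
      right_inv := fun A => by ext i j; simp
      map_mul' := map_mul _ }
  exact ⟨(Subgroup.topEquiv.symm.trans φ).trans (QuotientGroup.congr _ _ e (by
    ext A
    constructor
    · rintro ⟨B, hB, rfl⟩
      exact Subgroup.mem_center_iff.2 fun C => by
        obtain ⟨D, rfl⟩ := e.surjective C
        show e D * e B = e B * e D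
        rw [← map_mul, ← map_mul, Subgroup.mem_center_iff.1 hB D]
    · intro hA
      obtain ⟨B, rfl⟩ := e.surjective A
      refine ⟨B, Subgroup.mem_center_iff.2 fun C => e.injective ?_, rfl⟩
      rw [map_mul, map_mul]
      exact Subgroup.mem_center_iff.1 hA (e C)))⟩

end CfsgLib.Recognition.CITGraph
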