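import Cfsg.Agent.Lib.Recognition.CITGraph.Reduce
import Cfsg.Agent.Lib.Solvable.FrattiniFitting

/-!
# Almost simple groups in which involution centralisers are 2-groups

If the socle has one class of involutions, the index of the socle is a power of 2.  If moreover its
Sylow 2-subgroups are TI and their number is one more than their order, the socle is the whole group.
-/

set_option autoImplicit false
set_option linter.unusedSectionVars false
set_option linter.style.haveILetI false

open Subgroup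

namespace CfsgLib.Recognition.CITGraph

open CfsgLib.Recognition.CIT

variable {X : Type*} [Group X] [Finite X]

/-- The involutions of `T` are conjugate under `T`. -/
def OneClass (T : Subgroup X) : Prop :=
  ∀ a ∈ T, ∀ b ∈ T, orderOf a = 2 → orderOf b = 2 → ∃ t ∈ T, t * a * t⁻¹ = b

theorem index_two_pow (H : IsCIT X) (T : Subgroup X) [T.Normal] (hT : OneClass T)
    {a : X} (ha : a ∈ T) (ha2 : orderOf a = 2) : ∃ j, T.index = 2 ^ j := by
  haveI : Fact (Nat.Prime 2) := ⟨Nat.prime_two⟩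
  let f : (centralizer ({a} : Set X)) →* X ⧸ T := (QuotientGroup.mk' T).comp (Subgroup.subtype _)
  have hf : Function.Surjective f := by
    intro q
    obtain ⟨x, rfl⟩ := QuotientGroup.mk_surjective q
    obtain ⟨t, ht, hta⟩ := hT (x * a * x⁻¹) ((inferInstance : T.Normal).conj_mem a ha x) a ha
      (by rw [← MulAut.conj_apply, MulEquiv.orderOf_eq]; exact ha2) ha2
    refine ⟨⟨t * x, mem_centralizer_singleton_iff.2 (mul_inv_eq_iff_eq_mul.1 ?_)⟩, ?_⟩
    · rw [mul_inv_rev, show t * x * a * (x⁻¹ * t⁻¹) = t * (x * a * x⁻¹) * t⁻¹ by group]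
      exact hta
    · show (QuotientGroup.mk (t * x) : X ⧸ T) = QuotientGroup.mk x
      rw [QuotientGroup.mk_mul, (QuotientGroup.eq_one_iff t).2 ht, one_mul]
  exact IsPGroup.iff_card.1 ((H a ha2).of_surjective f hf)

theorem card_dvd_of_free {A : Type*} [Group A] {α : Type*} [MulAction A α]
    (h : ∀ x : α, MulAction.stabilizer A x = ⊥) : Nat.card A ∣ Nat.card α := by
  rw [Nat.card_congr (MulAction.selfEquivOrbitsQuotientProd (G := A) h), Nat.card_prod]
  exact dvd_mul_left _ _

/-- The socle is the whole group. -/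
theorem eq_top (H : IsCIT X) (T : Subgroup X) [T.Normal] {q N : ℕ} (hq : Even q) (hq2 : 2 ≤ q)
    (hqN : q ≤ N) (hNpow : ∃ s, N = 2 ^ s)
    (hcard : Nat.card T = N * ((N + 1) * (q - 1))) (hone : OneClass T)
    (hTI : ∀ S ≤ T, IsPGroup 2 S → Nat.card S = N → ∀ g ∈ S, g ≠ 1 → ∀ c ∈ T, c * g = g * c → c ∈ S) :
    T = ⊤ := by
  classical
  haveI : Fact (Nat.Prime 2) := ⟨Nat.prime_two⟩
  obtain ⟨s, hs⟩ := hNpow
  have hs1 : 1 ≤ s := by
    rcases Nat.eq_zero_or_pos s with rfl | h
    · rw [pow_zero] at hs; omega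
    · exact h
  have hqo : Odd (q - 1) := Nat.Even.sub_odd (by omega) hq odd_one
  have hmo : Odd ((N + 1) * (q - 1)) :=
    (Even.add_one (hs ▸ Nat.even_pow.2 ⟨even_two, by omega⟩)).mul hqo
  obtain ⟨a₁, ha₁⟩ := exists_prime_orderOf_dvd_card' (G := T) 2 (by
    rw [hcard, hs]; exact (dvd_pow_self 2 (by omega)).mul_right _)
  obtain ⟨j, hj⟩ := index_two_pow H T hone a₁.2 (by rw [Subgroup.orderOf_coe]; exact ha₁)
  obtain ⟨P⟩ : Nonempty (Sylow 2 X) := Sylow.nonempty
  have hX : Nat.card X = 2 ^ (s + j) * ((N + 1) * (q - 1)) := by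
    rw [← T.card_mul_index, hcard, hj, hs, pow_add]; ring
  have hP : Nat.card (P : Subgroup X) = N * 2 ^ j := by
    rw [P.card_eq_multiplicity, hX, Nat.factorization_mul (by positivity) (by intro h; rw [h] at hmo; exact absurd hmo (by decide))]
    simp [Nat.Prime.factorization_pow Nat.prime_two, pow_add, hs]
    exact Nat.factorization_eq_zero_of_not_dvd (hs ▸ hmo.not_two_dvd_nat)
  set S := (P : Subgroup X) ⊓ T with hS
  have hSP : IsPGroup 2 S := P.2.to_le inf_le_left
  have hScard : Nat.card S = N := by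
    obtain ⟨i, hi⟩ := IsPGroup.iff_card.1 hSP
    have hdvd : 2 ^ i ∣ 2 ^ s * ((N + 1) * (q - 1)) := by
      rw [← hi, ← hs, ← hcard]; exact Subgroup.card_dvd_of_le inf_le_right
    have h1 : 2 ^ i ∣ 2 ^ s :=
      (Nat.Coprime.pow_left i (Nat.coprime_two_left.2 hmo)).dvd_of_dvd_mul_right hdvd
    have h2 : (S.subgroupOf (P : Subgroup X)).index ∣ T.index := by
      rw [show S.subgroupOf (P : Subgroup X) = T.subgroupOf P by rw [hS, inf_subgroupOf_left]]
      exact Subgroup.relIndex_dvd_index_of_normal T _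
    have h3 := (S.subgroupOf (P : Subgroup X)).card_mul_index
    rw [Nat.card_congr (Subgroup.subgroupOfEquivOfLe (inf_le_left : S ≤ P)).toEquiv, hi, hP] at h3
    rw [hj] at h2
    have h4 : N * 2 ^ j ≤ 2 ^ i * 2 ^ j := h3 ▸ Nat.mul_le_mul_left _ (Nat.le_of_dvd (by positivity) h2)
    have h5 := Nat.le_of_mul_le_mul_right h4 (by positivity)
    have h6 := Nat.le_of_dvd (by positivity) h1
    omega
  have hTI' := hTI S inf_le_right hSP hScard
  have hSn : ∀ p ∈ (P : Subgroup X), ∀ x ∈ S, p * x * p⁻¹ ∈ S := fun p hp x hx =>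
    ⟨(P : Subgroup X).mul_mem ((P : Subgroup X).mul_mem hp hx.1) ((P : Subgroup X).inv_mem hp),
      (inferInstance : T.Normal).conj_mem x hx.2 p⟩
  -- an involution of `S` central in `P`
  obtain ⟨z, hzS, hz2, hzP⟩ : ∃ z ∈ S, orderOf z = 2 ∧ ∀ p ∈ (P : Subgroup X), p * z = z * p := by
    haveI : (S.subgroupOf (P : Subgroup X)).Normal := ⟨fun x hx p => hSn p p.2 x hx⟩
    haveI : Nontrivial P := by
      rw [← Finite.one_lt_card_iff_nontrivial, hP]
      have := Nat.one_le_two_pow (n := j)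
      nlinarith
    have hne : S.subgroupOf (P : Subgroup X) ≠ ⊥ := by
      intro h
      have hS0 : S = ⊥ := by
        rwa [Subgroup.subgroupOf_eq_bot, disjoint_iff, inf_eq_left.2 (inf_le_left : S ≤ P)] at h
      rw [hS0, Subgroup.card_bot] at hScard
      omega
    have hne' := IsPGroup.bot_lt_center P.2
    obtain ⟨w, hw, hw1⟩ : ∃ w ∈ S.subgroupOf (P : Subgroup X) ⊓ Subgroup.center P, w ≠ 1 := by
      haveI : Group.IsNilpotent P := P.2.isNilpotent
      by_contra h
      push Not at h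
      exact hne (by
        by_contra hne2
        exact (CfsgLib.Solvable.FrattiniFitting.inf_center_ne_bot (S.subgroupOf (P : Subgroup X)) hne2)
          ((Subgroup.eq_bot_iff_forall _).2 h))
    obtain ⟨k, hk⟩ := P.2 w
    obtain ⟨i, -, hi⟩ := (Nat.dvd_prime_pow Nat.prime_two).1 (orderOf_dvd_of_pow_eq_one hk)
    obtain ⟨i, rfl⟩ : ∃ i', i = i' + 1 := ⟨i - 1, by
      rcases Nat.eq_zero_or_pos i with rfl | h
      · exact absurd (orderOf_eq_one_iff.1 (by rw [hi, pow_zero])) hw1
      · omega⟩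
    refine ⟨((w ^ 2 ^ i : P) : X), ?_, ?_, fun p hp => ?_⟩
    · exact (S.subgroupOf (P : Subgroup X)).pow_mem hw.1 _
    · rw [Subgroup.orderOf_coe, orderOf_pow' _ (by positivity), hi, pow_succ,
        Nat.gcd_eq_right (Dvd.intro _ rfl), Nat.mul_div_cancel_left _ (by positivity)]
    · exact congrArg Subtype.val (Subgroup.mem_center_iff.1 ((Subgroup.center P).pow_mem hw.2 _) ⟨p, hp⟩)
  have hz1 : z ≠ 1 := fun h => by rw [h, orderOf_one] at hz2; omega
  -- the class of `z`
  set Inv := {x : X | x ∈ T ∧ orderOf x = 2} with hInv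
  have hInvcard : Nat.card Inv = (N + 1) * (q - 1) := by
    letI := MulAction.compHom X ((MulAut.conj : X →* MulAut X).comp T.subtype)
    have horb : MulAction.orbit T z = Inv := by
      ext x
      constructor
      · rintro ⟨t, rfl⟩
        show (t : X) * z * (t : X)⁻¹ ∈ Inv
        exact ⟨T.mul_mem (T.mul_mem t.2 hzS.2) (T.inv_mem t.2),
          by rw [← MulAut.conj_apply, MulEquiv.orderOf_eq]; exact hz2⟩
      · rintro ⟨hx, hx2⟩
        obtain ⟨t, ht, e⟩ := hone z hzS.2 x hx hz2 hx2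
        exact ⟨⟨t, ht⟩, e⟩
    have hstab : MulAction.stabilizer T z = S.subgroupOf T := by
      ext t
      rw [MulAction.mem_stabilizer_iff, Subgroup.mem_subgroupOf]
      show (t : X) * z * (t : X)⁻¹ = z ↔ _
      rw [mul_inv_eq_iff_eq_mul]
      exact ⟨fun h => hTI' z hzS hz1 t t.2 h, fun h => hzP _ h.1⟩
    rw [← horb, Nat.card_coe_set_eq, ← MulAction.index_stabilizer, hstab]
    have h3 := (S.subgroupOf T).card_mul_index
    rw [Nat.card_congr (Subgroup.subgroupOfEquivOfLe (inf_le_right : S ≤ T)).toEquiv, hScard, hcard] at h3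
    exact Nat.eq_of_mul_eq_mul_left (by omega) h3
  set I := {x : X | x ∈ S ∧ orderOf x = 2} with hI
  have hIS : I ⊆ Inv := fun x hx => ⟨hx.1.2, hx.2⟩
  have hIlt : Nat.card I < N := by
    rw [← hScard, Nat.card_coe_set_eq]
    change I.ncard < (S : Set X).ncard
    exact Set.ncard_lt_ncard ⟨fun x hx => hx.1, fun h => by
      have := (h S.one_mem).2
      rw [orderOf_one] at this
      omega⟩ (Set.toFinite _)
  -- the action on the other involutions
  let U := {x : X // x ∈ Inv \ I}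
  letI instU : MulAction P U :=
    { smul := fun p x => ⟨(p : X) * x.1 * (p : X)⁻¹,
        ⟨(inferInstance : T.Normal).conj_mem _ x.2.1.1 p,
          by rw [← MulAut.conj_apply, MulEquiv.orderOf_eq]; exact x.2.1.2⟩,
        fun h => x.2.2 ⟨by
          have := hSn _ ((P : Subgroup X).inv_mem p.2) _ h.1
          simpa [mul_assoc] using this, x.2.1.2⟩⟩
      one_smul := fun x => Subtype.ext (by show ((1 : P) : X) * x.1 * ((1 : P) : X)⁻¹ = x.1; simp)
      mul_smul := fun p r x => Subtype.ext (by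
        show ((p * r : P) : X) * x.1 * ((p * r : P) : X)⁻¹ = (p : X) * ((r : X) * x.1 * (r : X)⁻¹) * (p : X)⁻¹
        rw [Subgroup.coe_mul]; group) }
  have hU : Nat.card U + Nat.card I = (N + 1) * (q - 1) := by
    rw [← hInvcard]
    show Nat.card ↥(Inv \ I) + _ = _
    rw [Nat.card_coe_set_eq, Nat.card_coe_set_eq, Nat.card_coe_set_eq]
    exact Set.ncard_sdiff_add_ncard_of_subset hIS
  -- no element of `S` fixes one of them
  have hfree : ∀ (p : P) (x : U), p • x = x → (p : X) ∈ T → (p : X) = 1 := by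
    intro p x hx hpT
    have hx' : (p : X) * x.1 * (p : X)⁻¹ = x.1 := congrArg Subtype.val hx
    by_contra hp1
    exact x.2.2 ⟨hTI' p ⟨p.2, hpT⟩ hp1 x.1 x.2.1.1 (mul_inv_eq_iff_eq_mul.1 hx').symm, x.2.1.2⟩
  -- an element outside `T` cannot fix one either
  have hfree' : ∀ x : U, MulAction.stabilizer P x = ⊥ := by
    intro x
    by_contra hne
    obtain ⟨p, hp, hp1⟩ : ∃ p ∈ MulAction.stabilizer P x, p ≠ 1 := by
      by_contra h
      push Not at h
      exact hne ((Subgroup.eq_bot_iff_forall _).2 h)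
    rw [MulAction.mem_stabilizer_iff] at hp
    have hx' : (p : X) * x.1 * (p : X)⁻¹ = x.1 := congrArg Subtype.val hp
    have hpx : x.1 * (p : X) = (p : X) * x.1 := (mul_inv_eq_iff_eq_mul.1 hx').symm
    have hC : IsPGroup 2 (centralizer ({(p : X)} : Set X)) := by
      have hzp : IsPGroup 2 (zpowers (p : X)) := P.2.to_le (zpowers_le.2 p.2)
      exact (H.centralizer_isPGroup hzp (by simpa using hp1)).to_le fun c hc => by
        refine mem_centralizer_iff.2 fun y hy => ?_
        obtain ⟨n, rfl⟩ := hy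
        exact ((Commute.zpow_right (mem_centralizer_singleton_iff.1 hc) n).eq).symm
    have hzz : z * z = 1 := by rw [← pow_two, ← hz2, pow_orderOf_eq_one]
    have hxx : x.1 * x.1 = 1 := by rw [← pow_two, ← x.2.1.2, pow_orderOf_eq_one]
    have hd : z * x.1 ∈ centralizer ({(p : X)} : Set X) :=
      (centralizer ({(p : X)} : Set X)).mul_mem (mem_centralizer_singleton_iff.2 (hzP p p.2).symm)
        (mem_centralizer_singleton_iff.2 hpx)
    have hd1 : z * x.1 ≠ 1 := fun h => x.2.2 (by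
      rw [← inv_eq_of_mul_eq_one_right h, inv_eq_of_mul_eq_one_right hzz]
      exact ⟨hzS, hz2⟩)
    obtain ⟨k, hk⟩ := hC ⟨_, hd⟩
    obtain ⟨i, -, hi⟩ := (Nat.dvd_prime_pow Nat.prime_two).1
      (orderOf_dvd_of_pow_eq_one (congrArg Subtype.val hk : (z * x.1) ^ 2 ^ k = 1))
    obtain ⟨i, rfl⟩ : ∃ i', i = i' + 1 := ⟨i - 1, by
      rcases Nat.eq_zero_or_pos i with rfl | h
      · exact absurd (orderOf_eq_one_iff.1 (by rw [hi, pow_zero])) hd1
      · omega⟩
    set c := (z * x.1) ^ 2 ^ i with hc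
    have hc2 : orderOf c = 2 := by
      rw [hc, orderOf_pow' _ (by positivity), hi, pow_succ,
        Nat.gcd_eq_right (Dvd.intro _ rfl), Nat.mul_div_cancel_left _ (by positivity)]
    have hci : c⁻¹ = c := inv_eq_of_mul_eq_one_right (by rw [← pow_two, ← hc2, pow_orderOf_eq_one])
    have hcT : c ∈ T := T.pow_mem (T.mul_mem hzS.2 x.2.1.1) _
    have hcz : c * z = z * c := by
      have h1 : z * (z * x.1) * z⁻¹ = (z * x.1)⁻¹ := by
        rw [mul_inv_rev, inv_eq_of_mul_eq_one_right hzz, inv_eq_of_mul_eq_one_right hxx]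
        rw [← mul_assoc, hzz, one_mul]
      have h2 : z * c * z⁻¹ = c⁻¹ := by rw [hc, ← conj_pow, h1, inv_pow]
      rw [hci] at h2
      exact (mul_inv_eq_iff_eq_mul.1 h2).symm
    have hcS : c ∈ S := hTI' z hzS hz1 c hcT hcz
    have hcx : x.1 * c = c * x.1 := by
      have h1 : x.1 * (z * x.1) * x.1⁻¹ = (z * x.1)⁻¹ := by
        rw [mul_inv_rev, inv_eq_of_mul_eq_one_right hzz, inv_eq_of_mul_eq_one_right hxx]
        rw [mul_assoc, mul_assoc z, hxx, mul_one]
      have h2 : x.1 * c * x.1⁻¹ = c⁻¹ := by rw [hc, ← conj_pow, h1, inv_pow]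
      rw [hci] at h2
      exact mul_inv_eq_iff_eq_mul.1 h2
    exact x.2.2 ⟨hTI' c hcS (fun h => by rw [h, orderOf_one] at hc2; omega) x.1 x.2.1.1 hcx, x.2.1.2⟩
  have hdvd := card_dvd_of_free hfree'
  rw [hP] at hdvd
  have hmod : Nat.card I ≡ q - 1 [MOD N] := by
    obtain ⟨l, hl⟩ := (Dvd.intro _ rfl : N ∣ N * 2 ^ j).trans hdvd
    unfold Nat.ModEq
    have e : (N + 1) * (q - 1) = N * l + Nat.card I := by rw [← hl, hU]
    have h1 := congrArg (· % N) e
    simp only [Nat.mul_add_mod, add_mul, one_mul] at h1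
    exact h1.symm
  have hk : Nat.card I = q - 1 := by
    rwa [Nat.ModEq, Nat.mod_eq_of_lt hIlt, Nat.mod_eq_of_lt (by omega : q - 1 < N)] at hmod
  have hUeq : Nat.card U = N * (q - 1) := by
    rw [hk, add_mul, one_mul] at hU; omega
  rw [hUeq] at hdvd
  have h2j : 2 ^ j ∣ q - 1 := (Nat.mul_dvd_mul_iff_left (by omega)).1 hdvd
  have hj0 : j = 0 := by
    by_contra hne
    exact hqo.not_two_dvd_nat ((dvd_pow_self 2 hne).trans h2j)
  rw [hj0, pow_zero] at hj
  exact Subgroup.index_eq_one.1 hj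

end CfsgLib.Recognition.CITGraph
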