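import Cfsg.Agent.Lib.Recognition.CIT.Basic
import Cfsg.Agent.Lib.Involution.ZStar.Main
import Cfsg.Agent.Lib.OddOrder.Final.Main
import Cfsg.Agent.Lib.Coprime.OneClassInvolutions
import Cfsg.Agent.Lib.Solvable.Basic
import Cfsg.Agent.Lib.Solvable.Cores

/-!
# Non-solvable groups in which involution centralisers are 2-groups

Modulo the largest normal 2-subgroup such a group has no solvable normal subgroup, and so has a simple
non-abelian normal subgroup.
-/

set_option autoImplicit false
set_option linter.unusedSectionVars false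
set_option linter.style.haveILetI false

open Subgroup

namespace CfsgLib.Recognition.CITGraph

open CfsgLib.Recognition.CIT CfsgLib.Recognition.PrimeOrders

universe u

variable {G : Type u} [Group G] [Finite G]

theorem not_commute_two_odd (H : IsCIT G) {t d : G} (ht : orderOf t = 2) (hd : Odd (orderOf d)) (hd1 : d ≠ 1)
    (h : d * t = t * d) : False := by
  haveI : Fact (Nat.Prime 2) := ⟨Nat.prime_two⟩
  exact hd1 (eq_one_of_odd_of_pGroup (H t ht) (mem_centralizer_singleton_iff.2 h) hd)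

theorem orderOf_odd_of_mem {N : Subgroup G} (hN : Odd (Nat.card N)) {x : G} (hx : x ∈ N) :
    Odd (orderOf x) :=
  hN.of_dvd_nat (Subgroup.orderOf_dvd_natCard N hx)

/-- Under the hypothesis an involution inverts every odd order subgroup that it normalises. -/
theorem inverts (H : IsCIT G) {N : Subgroup G} (hN : Odd (Nat.card N)) {t : G} (ht : orderOf t = 2)
    (hn : ∀ x ∈ N, t * x * t⁻¹ ∈ N) {x : G} (hx : x ∈ N) : t * x * t⁻¹ = x⁻¹ := by
  have htt : t * t = 1 := by rw [← pow_two, ← ht, pow_orderOf_eq_one]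
  have hti : t⁻¹ = t := inv_eq_of_mul_eq_one_right htt
  let f : N → N := fun a => ⟨(a : G)⁻¹ * (t * a * t⁻¹), N.mul_mem (N.inv_mem a.2) (hn _ a.2)⟩
  have hf : Function.Injective f := by
    intro a b e
    have e' : (a : G)⁻¹ * (t * a * t⁻¹) = (b : G)⁻¹ * (t * b * t⁻¹) := congrArg Subtype.val e
    have h1 : t * ((b : G) * (a : G)⁻¹) * t⁻¹ = (b : G) * (a : G)⁻¹ := by
      calc t * ((b : G) * (a : G)⁻¹) * t⁻¹
          = (b : G) * ((b : G)⁻¹ * (t * b * t⁻¹)) * (t * a * t⁻¹)⁻¹ := by group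
        _ = (b : G) * (a : G)⁻¹ := by rw [← e']; group
    by_contra hab
    exact not_commute_two_odd H ht (orderOf_odd_of_mem hN (N.mul_mem b.2 (N.inv_mem a.2)))
      (fun h => hab (Subtype.ext (mul_inv_eq_one.1 h).symm)) (mul_inv_eq_iff_eq_mul.1 h1).symm
  obtain ⟨a, ha⟩ := Finite.surjective_of_injective hf ⟨x, hx⟩
  rw [show x = (a : G)⁻¹ * (t * a * t⁻¹) from (congrArg Subtype.val ha).symm]
  calc t * ((a : G)⁻¹ * (t * a * t⁻¹)) * t⁻¹ = t * (a : G)⁻¹ * t * a * (t * t)⁻¹ := by group
    _ = ((a : G)⁻¹ * (t * a * t⁻¹))⁻¹ := by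
        rw [htt, hti, inv_one, mul_one, mul_inv_rev, mul_inv_rev, mul_inv_rev, inv_inv, hti]; group

theorem exists_klein (H : IsCIT G) (hns : ¬ Group.IsSolvable G) : ∃ E : Subgroup G, IsKleinFour E := by
  classical
  haveI : Fact (Nat.Prime 2) := ⟨Nat.prime_two⟩
  by_contra hno
  push Not at hno
  have heven : Even (Nat.card G) := by
    by_contra h
    exact hns (CfsgLib.OddOrder.Final.oddSolvable G (Nat.not_even_iff_odd.1 h))
  obtain ⟨z, hz, N, hN, hNodd, hcomm⟩ := CfsgLib.Involution.ZStar.exists_of_rank_one heven hno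
  haveI := hN
  have hzz : z * z = 1 := by rw [← pow_two, ← hz, pow_orderOf_eq_one]
  have hzN : z ∉ N := fun h => by
    have := orderOf_odd_of_mem hNodd h
    rw [hz] at this
    exact absurd this (by decide)
  have hinv : ∀ x ∈ N, z * x * z⁻¹ = x⁻¹ := fun x hx =>
    inverts H hNodd hz (fun y hy => hN.conj_mem y hy z) hx
  -- every coset of `N` meets the centraliser of `z`
  have hfix : ∀ g : G, ∃ n ∈ N, g * n * z = z * (g * n) := by
    intro g
    set m := g⁻¹ * (z * g * z⁻¹) with hm
    have hmN : m ∈ N := by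
      have e : m = g⁻¹ * (z * g * z⁻¹ * g⁻¹) * g := by rw [hm]; group
      rw [e]
      simpa using hN.conj_mem _ (hcomm g) g⁻¹
    obtain ⟨n, hn⟩ := (powCoprime (G := N) (n := 2) (Nat.coprime_two_right.2 hNodd)).surjective ⟨m, hmN⟩
    have hn' : (n : G) * n = m := by
      have := congrArg Subtype.val hn
      simpa [powCoprime, pow_two] using this
    refine ⟨n, n.2, (mul_inv_eq_iff_eq_mul.1 ?_).symm⟩
    calc z * (g * n) * z⁻¹ = g * m * (z * n * z⁻¹) := by rw [hm]; group
      _ = g * n := by rw [hinv n n.2, ← hn']; group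
  have hP : IsPGroup 2 (G ⧸ N) := by
    intro q
    obtain ⟨g, rfl⟩ := QuotientGroup.mk_surjective q
    obtain ⟨n, hn, hc⟩ := hfix g
    obtain ⟨k, hk⟩ := H z hz ⟨g * n, mem_centralizer_singleton_iff.2 hc⟩
    refine ⟨k, ?_⟩
    have hk' : (g * n) ^ 2 ^ k = 1 := congrArg Subtype.val hk
    have e : (QuotientGroup.mk (g * n) : G ⧸ N) = QuotientGroup.mk g := by
      rw [QuotientGroup.eq]; simpa using N.inv_mem hn
    rw [← e, ← QuotientGroup.mk_pow, hk', QuotientGroup.mk_one]
  haveI : Group.IsSolvable (G ⧸ N) := haveI := hP.isNilpotent; inferInstance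
  haveI : Group.IsSolvable N := CfsgLib.OddOrder.Final.oddSolvable N hNodd
  exact hns (Group.isSolvable_of_ker_le_range N.subtype (QuotientGroup.mk' N) (by simp))

theorem odd_normal_eq_bot (H : IsCIT G) (hns : ¬ Group.IsSolvable G) {N : Subgroup G} (hN : N.Normal)
    (hodd : Odd (Nat.card N)) : N = ⊥ := by
  classical
  obtain ⟨E, hE⟩ := exists_klein H hns
  haveI := hE
  have hc : Nat.card E = 4 := IsKleinFour.card_four
  haveI : Fintype E := Fintype.ofFinite E
  obtain ⟨a, ha⟩ : ∃ a : E, a ≠ 1 := by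
    by_contra h
    push Not at h
    haveI : Subsingleton E := ⟨fun x y => (h x).trans (h y).symm⟩
    rw [Nat.card_of_subsingleton (1 : E)] at hc
    omega
  obtain ⟨b, hb, hba⟩ : ∃ b : E, b ≠ 1 ∧ b ≠ a := by
    by_contra h
    push Not at h
    have : (Finset.univ : Finset E) ⊆ {1, a} := fun x _ => by
      rcases eq_or_ne x 1 with rfl | hx
      · exact Finset.mem_insert_self _ _
      · exact Finset.mem_insert_of_mem (Finset.mem_singleton.2 (h x hx))
    have h2 := (Finset.card_le_card this).trans Finset.card_le_two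
    rw [Finset.card_univ, ← Nat.card_eq_fintype_card, hc] at h2
    omega
  have hinv : ∀ e : E, e ≠ 1 → ∀ x ∈ N, (e : G) * x * (e : G)⁻¹ = x⁻¹ := fun e he x hx =>
    inverts H hodd (by
      haveI : Fact (Nat.Prime 2) := ⟨Nat.prime_two⟩
      rw [Subgroup.orderOf_coe]
      exact orderOf_eq_prime (by rw [pow_two]; exact IsKleinFour.mul_self e) he)
      (fun y hy => hN.conj_mem y hy _) hx
  have hab : a * b ≠ 1 := fun h => hba (by
    have h1 := inv_eq_of_mul_eq_one_right h
    rw [inv_eq_of_mul_eq_one_right (IsKleinFour.mul_self a)] at h1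
    exact h1.symm)
  refine (Subgroup.eq_bot_iff_forall N).2 fun x hx => ?_
  have h1 := hinv _ hab x hx
  have h2 : ((a * b : E) : G) * x * ((a * b : E) : G)⁻¹ = x := by
    calc ((a * b : E) : G) * x * ((a * b : E) : G)⁻¹ = (a : G) * ((b : G) * x * (b : G)⁻¹) * (a : G)⁻¹ := by
          rw [Subgroup.coe_mul]; group
      _ = x := by rw [hinv b hb x hx, hinv a ha _ (N.inv_mem hx), inv_inv]
  have hxx : x * x = 1 := by
    rw [h1] at h2
    nth_rewrite 1 [← h2]
    exact inv_mul_cancel x
  exact eq_one_of_odd_of_two (orderOf_odd_of_mem hodd hx) (k := 1) (by rw [pow_one, pow_two, hxx])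

theorem quotient_isCIT (H : IsCIT G) {N : Subgroup G} [N.Normal] (hN : IsPGroup 2 N) : IsCIT (G ⧸ N) := by
  classical
  haveI : Fact (Nat.Prime 2) := ⟨Nat.prime_two⟩
  intro q hq
  refine isPGroup_of_forall fun d hd hdodd => ?_
  obtain ⟨s, rfl⟩ := QuotientGroup.mk_surjective q
  obtain ⟨d₀, rfl⟩ := QuotientGroup.mk_surjective d
  obtain ⟨k, hk⟩ := CfsgLib.Recognition.CIT.exists_odd_pow d₀
  set y := d₀ ^ 2 ^ k with hy
  by_contra hne
  have hy1 : y ≠ 1 := fun e => hne (eq_one_of_odd_of_two hdodd (k := k) (by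
    rw [← QuotientGroup.mk_pow, ← hy, e, QuotientGroup.mk_one]))
  have hcomm : (QuotientGroup.mk d₀ : G ⧸ N) * QuotientGroup.mk s = QuotientGroup.mk s * QuotientGroup.mk d₀ :=
    mem_centralizer_singleton_iff.1 hd
  have hcy : (QuotientGroup.mk y : G ⧸ N) * QuotientGroup.mk s = QuotientGroup.mk s * QuotientGroup.mk y := by
    rw [hy, QuotientGroup.mk_pow]
    exact Commute.pow_left hcomm _
  have hs : s⁻¹ * (y * s * y⁻¹) ∈ N := by
    rw [← QuotientGroup.eq_one_iff, QuotientGroup.mk_mul, QuotientGroup.mk_mul, QuotientGroup.mk_mul,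
      hcy, QuotientGroup.mk_inv, QuotientGroup.mk_inv]
    group
  obtain ⟨c, hc, hsc⟩ := H.exists_commute_coset hN (y := y) hk
    (fun c hc => (inferInstance : N.Normal).conj_mem c hc y) hs
  have e : (QuotientGroup.mk (s * c) : G ⧸ N) = QuotientGroup.mk s := by
    rw [QuotientGroup.eq]; simpa using N.inv_mem hc
  have hsc1 : s * c ≠ 1 := fun h => by
    rw [h, QuotientGroup.mk_one] at e
    rw [← e, orderOf_one] at hq
    omega
  have h2N : s * c * (s * c) ∈ N := by
    rw [← QuotientGroup.eq_one_iff, QuotientGroup.mk_mul, e]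
    have h2 := pow_orderOf_eq_one (QuotientGroup.mk s : G ⧸ N)
    rwa [hq, pow_two] at h2
  have hp : IsPGroup 2 (zpowers (s * c)) := by
    obtain ⟨j, hj⟩ := hN ⟨_, h2N⟩
    obtain ⟨i, -, hi⟩ := (Nat.dvd_prime_pow Nat.prime_two).1 (orderOf_dvd_of_pow_eq_one
      (show (s * c) ^ 2 ^ (j + 1) = 1 by
        rw [pow_succ', pow_mul, pow_two]
        exact congrArg Subtype.val hj))
    exact IsPGroup.of_card (n := i) (by rw [Nat.card_zpowers, hi])
  exact hy1 (H.eq_one_of_commute hp (mem_zpowers _) hsc1 hk hsc)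

/-- Without normal subgroups of 2-power or odd order a minimal normal subgroup is simple. -/
theorem exists_simple_normal_of_cores (H : IsCIT G) (hne : (⊤ : Subgroup G) ≠ ⊥)
    (h2 : ∀ L : Subgroup G, L.Normal → IsPGroup 2 L → L = ⊥)
    (hodd : ∀ L : Subgroup G, L.Normal → Odd (Nat.card L) → L = ⊥) :
    ∃ T : Subgroup G, T.Normal ∧ IsSimpleGroup T ∧ ¬ IsMulCommutative T := by
  classical
  haveI : Fact (Nat.Prime 2) := ⟨Nat.prime_two⟩
  obtain ⟨M, hM, hM0, -, hMmin⟩ := CfsgLib.Solvable.Basic.exists_minimal_normal_le hne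
  haveI := hM
  -- a nontrivial subgroup which is no 2-group and has even order
  have key : ∀ A B : Subgroup G, Even (Nat.card A) → ¬ IsPGroup 2 B →
      (∀ a ∈ A, ∀ b ∈ B, a * b = b * a) → False := by
    intro A B hA hB hc
    obtain ⟨t, ht⟩ := exists_prime_orderOf_dvd_card' (G := A) 2 hA.two_dvd
    refine hB (isPGroup_of_forall fun d hd hdo => ?_)
    by_contra hd1
    exact not_commute_two_odd H (t := (t : G)) (by rw [Subgroup.orderOf_coe]; exact ht) hdo hd1
      (hc t t.2 d hd).symm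
  have hMeven : Even (Nat.card M) := by
    by_contra h
    exact hM0 (hodd M hM (Nat.not_even_iff_odd.1 h))
  have hMnc : ¬ IsMulCommutative M := fun h => key M M hMeven (fun h2' => hM0 (h2 M hM h2'))
    fun a ha b hb => congrArg Subtype.val ((isMulCommutative_iff.1 h) ⟨a, ha⟩ ⟨b, hb⟩)
  refine ⟨M, hM, ?_, hMnc⟩
  haveI : Nontrivial M := (Subgroup.nontrivial_iff_ne_bot M).2 hM0
  refine ⟨fun K hK => ?_⟩
  by_contra hKne
  push Not at hKne
  obtain ⟨K₀, hK₀n, hK₀, hK₀K, hK₀min⟩ := CfsgLib.Solvable.Basic.exists_minimal_normal_le hKne.1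
  have hK2 : ¬ IsPGroup 2 K₀ := by
    intro h
    haveI := hK₀n
    have hle := CfsgLib.Solvable.Cores.le_pCore h
    have hC := h2 ((Cfsg.pCore 2 M).map M.subtype) inferInstance
      ((CfsgLib.Solvable.Cores.isPGroup_pCore 2).map _)
    rw [(Subgroup.map_eq_bot_iff_of_injective _ M.subtype_injective).1 hC] at hle
    exact hK₀ (le_bot_iff.1 hle)
  have hKe : Even (Nat.card K₀) := by
    by_contra h
    rw [Nat.not_even_iff_odd] at h
    haveI := hK₀n
    have hle := CfsgLib.Solvable.Cores.le_pPrimeCore (p := 2) (Nat.coprime_two_right.2 h)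
    have hC := hodd ((Cfsg.pPrimeCore 2 M).map M.subtype) inferInstance (by
      rw [Subgroup.card_map_of_injective M.subtype_injective]
      exact Nat.coprime_two_right.1 (CfsgLib.Solvable.Cores.coprime_card_pPrimeCore 2))
    rw [(Subgroup.map_eq_bot_iff_of_injective _ M.subtype_injective).1 hC] at hle
    exact hK₀ (le_bot_iff.1 hle)
  by_cases hfix : ∀ g : G, K₀.map (MulAut.conjNormal g : MulAut M).toMonoidHom = K₀
  · have hn : (K₀.map M.subtype).Normal := ⟨by
      rintro _ ⟨k, hk, rfl⟩ g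
      have : (MulAut.conjNormal g : MulAut M) k ∈ K₀ := by
        have h3 := Subgroup.mem_map_of_mem (MulAut.conjNormal g : MulAut M).toMonoidHom hk
        rwa [hfix g] at h3
      exact ⟨_, this, by simp [MulAut.conjNormal_apply]⟩⟩
    rcases hMmin _ hn (Subgroup.map_subtype_le K₀) with h | h
    · exact hK₀ ((Subgroup.map_eq_bot_iff_of_injective _ M.subtype_injective).1 h)
    · apply hKne.2
      refine eq_top_iff.2 (le_trans ?_ hK₀K)
      intro x _
      obtain ⟨y, hy, hyx⟩ : (x : G) ∈ K₀.map M.subtype := h.symm ▸ x.2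
      exact Subtype.ext hyx ▸ hy
  · push Not at hfix
    obtain ⟨g, hg⟩ := hfix
    set e := (MulAut.conjNormal g : MulAut M)
    have hK₁n : (K₀.map e.toMonoidHom).Normal := hK₀n.map _ e.surjective
    rcases hK₀min (K₀ ⊓ K₀.map e.toMonoidHom) inferInstance inf_le_left with h | h
    · refine key (K₀.map M.subtype) ((K₀.map e.toMonoidHom).map M.subtype) ?_ ?_ ?_
      · rwa [Subgroup.card_map_of_injective M.subtype_injective]
      · intro h'
        refine hK2 ((h'.of_equiv (Subgroup.equivMapOfInjective _ _ M.subtype_injective).symm).of_equiv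
          (Subgroup.equivMapOfInjective _ _ e.injective).symm)
      · rintro _ ⟨a, ha, rfl⟩ _ ⟨b, hb, rfl⟩
        exact congrArg Subtype.val
          (Subgroup.commute_of_normal_of_disjoint _ _ hK₀n hK₁n (disjoint_iff.2 h) a b ha hb)
    · have hle : K₀ ≤ K₀.map e.toMonoidHom := inf_eq_left.1 h
      exact hg (Subgroup.eq_of_le_of_card_ge hle
        (le_of_eq (Subgroup.card_map_of_injective e.injective))).symm

/-- Modulo the largest normal 2-subgroup there is a simple non-abelian normal subgroup. -/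
theorem exists_simple_normal (H : IsCIT G) (hns : ¬ Group.IsSolvable G) :
    ∃ T : Subgroup (G ⧸ Cfsg.pCore 2 G), T.Normal ∧ IsSimpleGroup T ∧ ¬ IsMulCommutative T := by
  haveI : Fact (Nat.Prime 2) := ⟨Nat.prime_two⟩
  have hO : IsPGroup 2 (Cfsg.pCore 2 G) := CfsgLib.Solvable.Cores.isPGroup_pCore 2
  have hnsQ : ¬ Group.IsSolvable (G ⧸ Cfsg.pCore 2 G) := fun h => by
    haveI := h
    haveI : Group.IsSolvable (Cfsg.pCore 2 G) := haveI := hO.isNilpotent; inferInstance
    exact hns (Group.isSolvable_of_ker_le_range (Cfsg.pCore 2 G).subtype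
      (QuotientGroup.mk' (Cfsg.pCore 2 G)) (by simp))
  have HQ := quotient_isCIT H hO
  refine exists_simple_normal_of_cores HQ ?_ ?_ fun L hL hodd => odd_normal_eq_bot HQ hnsQ hL hodd
  · intro h
    refine hnsQ (Group.isSolvable_of_comm fun a b => ?_)
    have h1 : ∀ x : G ⧸ Cfsg.pCore 2 G, x = 1 := fun x => by
      have := Subgroup.mem_top x
      rw [h] at this
      exact Subgroup.mem_bot.1 this
    rw [h1 a, h1 b]
  · intro L hL hp
    haveI := hL
    exact le_bot_iff.1 (CfsgLib.Coprime.OneClassInvolutions.pCore_quotient_self (G := G) ▸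
      CfsgLib.Solvable.Cores.le_pCore hp)

end CfsgLib.Recognition.CITGraph
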